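import Cfsg.Agent.Iso44.Mult
import Mathlib.LinearAlgebra.Matrix.BilinearForm
import Mathlib.LinearAlgebra.Matrix.SesquilinearForm
import Mathlib.GroupTheory.Perm.Cycle.Type

/-!
Blocks and invariance of the multiplicity functions.
-/

set_option autoImplicit false

universe u

namespace Cfsg.Agent.Iso44

open Polynomial Module

variable {r : ℕ} [hr : Fact r.Prime] {E : Type*} [Field E] {F : Type*} [Field F] [Algebra F E]
variable {V : Type u} [AddCommGroup V] [Module F V] [FiniteDimensional F V]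

/-- the inverse of an isometry has the same characteristic polynomial -/
theorem charpoly_inv (B : LinearMap.BilinForm F V) (hB : B.Nondegenerate) {g h : End F V}
    (hg : ∀ x y, B (g x) (g y) = B x y) (hgh : g * h = 1) : h.charpoly = g.charpoly := by
  classical
  set b := finBasis F V
  set M := LinearMap.toMatrix b b g with hM
  set N := LinearMap.toMatrix b b h with hN
  set J := LinearMap.BilinForm.toMatrix b B with hJ
  have hJdet : J.det ≠ 0 := (LinearMap.BilinForm.nondegenerate_iff_det_ne_zero b).1 hB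
  have h1 : B.compLeft g = B.compRight h := by
    ext x y
    simp only [LinearMap.BilinForm.compLeft_apply, LinearMap.BilinForm.compRight_apply]
    have h2 : g (h y) = y := by
      have := congrArg (fun f : End F V => f y) hgh
      exact this
    conv_lhs => rw [← h2]
    rw [hg]
  have h2 : M.transpose * J = J * N := by
    rw [hM, hN, hJ, ← LinearMap.BilinForm.toMatrix_compLeft, ← LinearMap.BilinForm.toMatrix_compRight, h1]
  rw [← LinearMap.charpoly_toMatrix g b, ← LinearMap.charpoly_toMatrix h b, ← hM, ← hN]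
  have hJu : IsUnit J := (Matrix.isUnit_iff_isUnit_det J).2 (isUnit_iff_ne_zero.2 hJdet)
  obtain ⟨Ju, hJu⟩ := hJu
  have h3 : N = (Ju.val)⁻¹ * M.transpose * Ju.val := by
    rw [← Matrix.coe_units_inv, hJu, Matrix.mul_assoc, h2, ← Matrix.mul_assoc, ← hJu, Units.inv_mul, Matrix.one_mul]
  rw [h3, Matrix.charpoly_units_conj', Matrix.charpoly_transpose]

/-- invariance under a cyclic group -/
theorem inv_zpowers {w : (ZMod r)ˣ} {f : ZMod r → ℕ} (h : ∀ j, f ((w : ZMod r) * j) = f j) : Inv (Subgroup.zpowers w) f := by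
  have h2 : ∀ j, f (((w⁻¹ : (ZMod r)ˣ) : ZMod r) * j) = f j := by
    intro j
    rw [← h (((w⁻¹ : (ZMod r)ˣ) : ZMod r) * j), Units.mul_inv_cancel_left]
  intro x hx
  rw [Subgroup.mem_zpowers_iff] at hx
  obtain ⟨k, rfl⟩ := hx
  induction k using Int.induction_on with
  | zero => intro j; simp
  | succ k ih =>
    intro j
    rw [zpow_add_one, mul_comm (w ^ (k : ℤ)) w, Units.val_mul, mul_assoc, h, ih]
  | pred k ih =>
    intro j
    rw [zpow_sub_one, mul_comm (w ^ (-(k : ℤ))) w⁻¹, Units.val_mul, mul_assoc, h2, ih]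

section
variable {ζ : E} (hζ : IsPrimitiveRoot ζ r) [IsAlgClosed E]
include hζ

/-- maps with the same multiplicities are conjugate -/
theorem exists_P (g g' : V ≃ₗ[F] V) (hg : g ^ r = 1) (hg' : g' ^ r = 1)
    (h : (mult ζ (g : End F V) : ZMod r → ℕ) = mult ζ (g' : End F V)) : ∃ P : V ≃ₗ[F] V, ∀ x, P (g x) = g' (P x) := by
  have hrF : (r : F) ≠ 0 := by
    have h1 := natCast_ne_zero_E (r := r) hζ
    intro h2
    apply h1
    rw [← map_natCast (algebraMap F E), h2, map_zero]
  have e : ∀ g : V ≃ₗ[F] V, g ^ r = 1 → (g : End F V) ^ r = 1 := by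
    intro g hg
    have h1 : ∀ k : ℕ, ((g ^ k : V ≃ₗ[F] V) : End F V) = (g : End F V) ^ k := by
      intro k
      induction k with
      | zero => rfl
      | succ k ih => rw [pow_succ, pow_succ, ← ih]; rfl
    rw [← h1, hg]; rfl
  exact H41.exists_equiv_of_charpoly_eq (finrank F V) V V (g : End F V) (g' : End F V) le_rfl
    (H41.isSemisimple_of_pow _ r hrF (e g hg)) (H41.isSemisimple_of_pow _ r hrF (e g' hg'))
    (charpoly_eq_of_mult hζ _ (e g hg) _ (e g' hg') h)

/-- a map of order `r` has a nonzero exponent -/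
theorem eq_one_of_mult (g : End F V) (hg : g ^ r = 1) (h : mult ζ g (0 : ZMod r) = finrank F V) : g = 1 := by
  have hrF : (r : F) ≠ 0 := by
    have h1 := natCast_ne_zero_E (r := r) hζ
    intro h2
    apply h1
    rw [← map_natCast (algebraMap F E), h2, map_zero]
  have h1 : (mult ζ g : ZMod r → ℕ) = mult ζ (1 : End F V) := by
    have key : ∀ f : End F V, f ^ r = 1 → mult ζ f (0 : ZMod r) = finrank F V → ∀ j : ZMod r, j ≠ 0 → mult ζ f j = 0 := by
      intro f hf h0 j hj
      have h2 := sum_mult hζ f hf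
      rw [← Finset.add_sum_erase _ _ (Finset.mem_univ (0 : ZMod r)), h0] at h2
      have h3 : ∑ x ∈ Finset.univ.erase (0 : ZMod r), mult ζ f x = 0 := by omega
      exact Finset.sum_eq_zero_iff.1 h3 j (Finset.mem_erase.2 ⟨hj, Finset.mem_univ _⟩)
    funext j
    by_cases hj : j = 0
    · rw [hj, h, mult_one_zero hζ]
    · rw [key g hg h j hj, key 1 (one_pow _) (mult_one_zero hζ) j hj]
  obtain ⟨e, he⟩ := H41.exists_equiv_of_charpoly_eq (finrank F V) V V g (1 : End F V) le_rfl
    (H41.isSemisimple_of_pow _ r hrF hg) (H41.isSemisimple_of_pow _ r hrF (one_pow _))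
    (charpoly_eq_of_mult hζ _ hg _ (one_pow _) h1)
  ext x
  exact e.injective (he x)

/-- blocks -/
theorem block (H : Subgroup (ZMod r)ˣ) (g : End F V) (hg : g ^ r = 1) (hg1 : g ≠ 1) (hd : finrank F V = Nat.card H)
    (hinv : Inv H (mult ζ g)) (c : (ZMod r)ˣ ⧸ H) : ∃ k : ℕ, (mult ζ (g ^ k) : ZMod r → ℕ) = T H 0 (Pi.single c 1) := by
  obtain ⟨x, a, hxa⟩ := exists_T H hinv
  have h1 := sum_mult hζ g hg
  rw [hxa, sum_T, hd] at h1
  have hpos : 0 < Nat.card H := Nat.card_pos
  have hx : x ≠ Nat.card H := by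
    rintro rfl
    apply hg1
    apply eq_one_of_mult hζ g hg
    rw [hxa, T_zero, hd]
  have hs : ∑ c, a c = 1 := by
    rcases Nat.lt_trichotomy (∑ c, a c) 1 with h2 | h2 | h2
    · exfalso
      have h3 : ∑ c, a c = 0 := by omega
      rw [h3, mul_zero, add_zero] at h1
      exact hx h1
    · exact h2
    · exfalso
      have h3 : Nat.card H * 2 ≤ Nat.card H * ∑ c, a c := Nat.mul_le_mul_left _ h2
      omega
  have hx0 : x = 0 := by rw [hs, mul_one] at h1; omega
  obtain ⟨c0, hc0⟩ : ∃ c0, a = Pi.single c0 1 := by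
    obtain ⟨c0, -, hc0⟩ : ∃ c0 ∈ Finset.univ, a c0 ≠ 0 := by
      apply Finset.exists_ne_zero_of_sum_ne_zero
      rw [hs]; exact one_ne_zero
    refine ⟨c0, ?_⟩
    have h2 := Finset.add_sum_erase Finset.univ a (Finset.mem_univ c0)
    rw [hs] at h2
    have h3 : a c0 = 1 := by omega
    have h4 : ∑ x ∈ Finset.univ.erase c0, a x = 0 := by omega
    funext y
    by_cases hy : y = c0
    · rw [hy, h3, Pi.single_eq_same]
    · rw [Pi.single_eq_of_ne hy]
      exact Finset.sum_eq_zero_iff.1 h4 y (Finset.mem_erase.2 ⟨hy, Finset.mem_univ _⟩)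
  subst hx0
  obtain ⟨u0, hu0⟩ := QuotientGroup.mk_surjective c0
  obtain ⟨u1, hu1⟩ := QuotientGroup.mk_surjective c
  set v : (ZMod r)ˣ := u1 * u0⁻¹ with hv
  have hk : (((v : ZMod r).val : ℕ) : ZMod r) = v := ZMod.natCast_zmod_val _
  refine ⟨(v : ZMod r).val, ?_⟩
  have h5 := mult_pow hζ g hg (v : ZMod r).val (by rw [hk]; exact v.ne_zero)
  simp only [hk] at h5
  apply T_ext
  · have h6 := h5 0
    rw [mul_zero] at h6
    rw [h6, hxa, T_zero, T_zero]
  · intro u
    have h6 := h5 ((v⁻¹ * u : (ZMod r)ˣ) : ZMod r)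
    rw [← Units.val_mul, mul_inv_cancel_left] at h6
    rw [h6, hxa, T_unit, T_unit, hc0]
    have h7 : ((QuotientGroup.mk (v⁻¹ * u) : (ZMod r)ˣ ⧸ H) = c0) ↔ ((QuotientGroup.mk u : (ZMod r)ˣ ⧸ H) = c) := by
      rw [← hu0, ← hu1, QuotientGroup.mk_mul, hv]
      simp only [QuotientGroup.mk_inv, QuotientGroup.mk_mul]
      constructor
      · intro h
        rw [mul_inv_rev, inv_inv, mul_assoc] at h
        have h8 := mul_left_cancel (a := (u0 : (ZMod r)ˣ ⧸ H)) (b := (u1 : (ZMod r)ˣ ⧸ H)⁻¹ * (u : (ZMod r)ˣ ⧸ H)) (c := 1) (by rw [h, mul_one])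
        rw [inv_mul_eq_one] at h8
        exact h8.symm
      · intro h
        rw [h, mul_inv_rev, inv_inv, mul_assoc, inv_mul_cancel, mul_one]
    by_cases h8 : (QuotientGroup.mk u : (ZMod r)ˣ ⧸ H) = c
    · rw [h8, Pi.single_eq_same, h7.2 h8, Pi.single_eq_same]
    · rw [Pi.single_eq_of_ne h8, Pi.single_eq_of_ne (fun h => h8 (h7.1 h))]

end

end Cfsg.Agent.Iso44
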