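import Mathlib.Data.Sym.NatCard
import Mathlib.Data.Finsupp.Multiset
import Mathlib.Data.ZMod.Units
import Mathlib.GroupTheory.Coset.Card
import Mathlib.GroupTheory.Index
import Mathlib.Algebra.BigOperators.GroupWithZero.Action
import Mathlib.Tactic

/-!
Functions on `ZMod r` invariant under a subgroup of the units; counting them.
-/

set_option autoImplicit false

namespace Cfsg.Agent.Iso44

/-! ### stars and bars -/

theorem card_sum_eq {α : Type} [Fintype α] (n : ℕ) :
    Nat.card {P : α → ℕ // ∑ i, P i = n} = (Fintype.card α).multichoose n := by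
  classical
  rw [← Nat.card_eq_fintype_card, ← Sym.natCard_sym_eq_multichoose]
  exact (Nat.card_congr (Sym.equivNatSumOfFintype α n)).symm

theorem card_sum_eq_choose {α : Type} [Fintype α] [Nonempty α] (n : ℕ) :
    Nat.card {P : α → ℕ // ∑ i, P i = n} = (n + Fintype.card α - 1).choose (Fintype.card α - 1) := by
  rw [card_sum_eq, Nat.multichoose_eq]
  have : 0 < Fintype.card α := Fintype.card_pos
  obtain ⟨k, hk⟩ := Nat.exists_eq_succ_of_ne_zero this.ne'
  rw [hk]
  have e1 : k.succ + n - 1 = n + k := by omega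
  have e2 : n + k.succ - 1 = n + k := by omega
  have e3 : k.succ - 1 = k := by omega
  rw [e1, e2, e3, Nat.choose_symm_add]

theorem card_sum_le {α : Type} [Fintype α] (n : ℕ) :
    Nat.card {P : α → ℕ // ∑ i, P i ≤ n} = (n + Fintype.card α).choose (Fintype.card α) := by
  have e : {P : α → ℕ // ∑ i, P i ≤ n} ≃ {P : Option α → ℕ // ∑ i, P i = n} :=
    { toFun := fun P => ⟨fun o => o.elim (n - ∑ i, P.1 i) P.1, by
        rw [Fintype.sum_option]
        exact Nat.sub_add_cancel P.2⟩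
      invFun := fun P => ⟨fun i => P.1 (some i), by
        have := P.2
        rw [Fintype.sum_option] at this
        show ∑ i, P.1 (some i) ≤ n
        omega⟩
      left_inv := fun P => rfl
      right_inv := fun P => by
        apply Subtype.ext
        funext o
        rcases o with _ | o
        · have := P.2
          rw [Fintype.sum_option] at this
          show n - ∑ i, P.1 (some i) = P.1 none
          omega
        · rfl }
  rw [Nat.card_congr e, card_sum_eq_choose]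
  have : Fintype.card (Option α) = Fintype.card α + 1 := Fintype.card_option
  rw [this]
  rfl

/-! ### invariant functions -/

variable {r : ℕ} [hr : Fact r.Prime] (H : Subgroup (ZMod r)ˣ)

noncomputable instance fq : Fintype ((ZMod r)ˣ ⧸ H) := Fintype.ofFinite _

noncomputable instance dq : DecidableEq ((ZMod r)ˣ ⧸ H) := Classical.decEq _

/-- invariance -/
def Inv (f : ZMod r → ℕ) : Prop := ∀ h ∈ H, ∀ j, f ((h : ZMod r) * j) = f j

open Classical in
/-- the invariant function with given values -/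
noncomputable def T (x : ℕ) (a : (ZMod r)ˣ ⧸ H → ℕ) : ZMod r → ℕ := fun j =>
  if h : j = 0 then x else a (QuotientGroup.mk (Units.mk0 j h))

theorem T_zero (x : ℕ) (a : (ZMod r)ˣ ⧸ H → ℕ) : T H x a 0 = x := by rw [T, dif_pos rfl]

theorem T_unit (x : ℕ) (a : (ZMod r)ˣ ⧸ H → ℕ) (u : (ZMod r)ˣ) : T H x a (u : ZMod r) = a (QuotientGroup.mk u) := by
  rw [T, dif_neg u.ne_zero]
  congr 2
  exact Units.ext rfl

theorem T_ext {f g : ZMod r → ℕ} (h0 : f 0 = g 0) (h1 : ∀ u : (ZMod r)ˣ, f u = g u) : f = g := by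
  funext j
  by_cases hj : j = 0
  · rw [hj, h0]
  · exact h1 (Units.mk0 j hj)

theorem inv_T (x : ℕ) (a : (ZMod r)ˣ ⧸ H → ℕ) : Inv H (T H x a) := by
  intro h hh j
  by_cases hj : j = 0
  · rw [hj, mul_zero]
  · have : j = ((Units.mk0 j hj : (ZMod r)ˣ) : ZMod r) := rfl
    rw [this, ← Units.val_mul, T_unit, T_unit]
    congr 1
    rw [QuotientGroup.eq]
    have : (h * Units.mk0 j hj)⁻¹ * Units.mk0 j hj = h⁻¹ := by rw [mul_inv_rev, mul_comm, mul_comm _ h⁻¹, mul_comm, mul_assoc, inv_mul_cancel, mul_one]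
    rw [this]
    exact H.inv_mem hh

theorem T_add (x y : ℕ) (a b : (ZMod r)ˣ ⧸ H → ℕ) : T H x a + T H y b = T H (x + y) (a + b) := by
  apply T_ext
  · rw [Pi.add_apply, T_zero, T_zero, T_zero]
  · intro u
    rw [Pi.add_apply, T_unit, T_unit, T_unit, Pi.add_apply]

theorem T_inj {x y : ℕ} {a b : (ZMod r)ˣ ⧸ H → ℕ} (h : T H x a = T H y b) : x = y ∧ a = b := by
  refine ⟨by rw [← T_zero H x a, h, T_zero], ?_⟩
  funext c
  obtain ⟨u, rfl⟩ := QuotientGroup.mk_surjective c
  rw [← T_unit H x a, h, T_unit]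

theorem exists_T {f : ZMod r → ℕ} (hf : Inv H f) : ∃ x a, f = T H x a := by
  refine ⟨f 0, fun c => f (Quotient.out c : (ZMod r)ˣ), T_ext (T_zero _ _ _).symm fun u => ?_⟩
  rw [T_unit]
  have h1 : (QuotientGroup.mk (Quotient.out (QuotientGroup.mk u : (ZMod r)ˣ ⧸ H)) : (ZMod r)ˣ ⧸ H) = QuotientGroup.mk u :=
    Quotient.out_eq' _
  have h2 := QuotientGroup.eq.1 h1
  have h3 := hf _ h2 (Quotient.out (QuotientGroup.mk u : (ZMod r)ˣ ⧸ H) : (ZMod r)ˣ)
  rw [← Units.val_mul] at h3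
  rw [← h3]
  congr 2
  rw [mul_comm, mul_inv_cancel_left]

theorem sum_T (x : ℕ) (a : (ZMod r)ˣ ⧸ H → ℕ) : ∑ j, T H x a j = x + Nat.card H * ∑ c, a c := by
  have h1 : ∑ j, T H x a j = T H x a 0 + ∑ u : (ZMod r)ˣ, T H x a u := by
    rw [← Finset.add_sum_erase _ _ (Finset.mem_univ (0 : ZMod r))]
    congr 1
    refine (Finset.sum_bij (fun (u : (ZMod r)ˣ) _ => (u : ZMod r)) ?_ ?_ ?_ ?_).symm
    · intro u _
      exact Finset.mem_erase.2 ⟨u.ne_zero, Finset.mem_univ _⟩
    · intro u _ v _ h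
      exact Units.ext h
    · intro j hj
      exact ⟨Units.mk0 j (Finset.ne_of_mem_erase hj), Finset.mem_univ _, rfl⟩
    · intro u _
      rfl
  rw [h1, T_zero]
  congr 1
  have : Fintype H := Fintype.ofFinite _
  have h2 : ∑ u : (ZMod r)ˣ, T H x a u = ∑ p : ((ZMod r)ˣ ⧸ H) × H, a p.1 := by
    refine Fintype.sum_equiv Subgroup.groupEquivQuotientProdSubgroup _ _ fun u => ?_
    rw [T_unit]
    rfl
  rw [h2, Fintype.sum_prod_type]
  simp only [Finset.sum_const, Finset.card_univ, smul_eq_mul]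
  rw [← Finset.mul_sum, Nat.card_eq_fintype_card]

theorem card_quot_mul : Fintype.card ((ZMod r)ˣ ⧸ H) * Nat.card H = r - 1 := by
  rw [← Nat.card_eq_fintype_card, ← Subgroup.card_eq_card_quotient_mul_card_subgroup, Nat.card_eq_fintype_card, ZMod.card_units_eq_totient,
    Nat.totient_prime hr.out]

/-- total count -/
theorem card_le (n : ℕ) :
    Nat.card {a : (ZMod r)ˣ ⧸ H → ℕ // Nat.card H * ∑ c, a c ≤ n} =
      (n / Nat.card H + Fintype.card ((ZMod r)ˣ ⧸ H)).choose (Fintype.card ((ZMod r)ˣ ⧸ H)) := by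
  rw [← card_sum_le]
  apply Nat.card_congr
  apply Equiv.subtypeEquivRight
  intro a
  rw [Nat.le_div_iff_mul_le Nat.card_pos, mul_comm]

theorem card_eq (n : ℕ) :
    Nat.card {a : (ZMod r)ˣ ⧸ H → ℕ // Nat.card H * ∑ c, a c = n} =
      if Nat.card H ∣ n then (n / Nat.card H + Fintype.card ((ZMod r)ˣ ⧸ H) - 1).choose (Fintype.card ((ZMod r)ˣ ⧸ H) - 1) else 0 := by
  split_ifs with h
  · rw [← card_sum_eq_choose]
    apply Nat.card_congr
    apply Equiv.subtypeEquivRight
    intro a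
    obtain ⟨k, rfl⟩ := h
    have hpos : 0 < Nat.card H := Nat.card_pos
    rw [Nat.mul_div_cancel_left _ hpos]
    exact ⟨fun h => Nat.eq_of_mul_eq_mul_left hpos h, fun h => by rw [h]⟩
  · rw [Nat.card_eq_zero]
    left
    exact ⟨fun a => h ⟨_, a.2.symm⟩⟩

open Classical in
/-- the general class count -/
theorem count_classes {G : Type*} [Group G] (μ : G → ZMod r → ℕ) (n : ℕ) (P : Prop)
    (hconj : ∀ g h, IsConj g h → μ g = μ h)
    (hsep : ∀ g h, g ^ r = 1 → h ^ r = 1 → μ g = μ h → IsConj g h)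
    (hinv : ∀ g, g ^ r = 1 → Inv H (μ g)) (hsum : ∀ g, g ^ r = 1 → ∑ j, μ g j = n)
    (hone : μ 1 0 = n) (hobs : ∀ g, g ^ r = 1 → μ g 0 = 0 → P)
    (hreal : ∀ x a, x + Nat.card H * ∑ c, a c = n → (x = 0 → P) → ∃ g, g ^ r = 1 ∧ μ g = T H x a)
    (hn : P ∨ 0 < n) :
    Nat.card {C : ConjClasses G // ∃ g, ConjClasses.mk g = C ∧ orderOf g = r} =
      (n / Nat.card H + Fintype.card ((ZMod r)ˣ ⧸ H)).choose (Fintype.card ((ZMod r)ˣ ⧸ H)) - 1 -
        (if Nat.card H ∣ n ∧ ¬ P then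
          (n / Nat.card H + Fintype.card ((ZMod r)ˣ ⧸ H) - 1).choose (Fintype.card ((ZMod r)ˣ ⧸ H) - 1) else 0) := by
  have hpos : 0 < Nat.card H := Nat.card_pos
  have hμ1 : μ 1 = T H n 0 := by
    obtain ⟨x, a, h⟩ := exists_T H (hinv 1 (one_pow _))
    have h1 := hsum 1 (one_pow _)
    rw [h, sum_T] at h1
    have h2 : x = n := by rw [← hone, h, T_zero]
    rw [h, h2]
    congr 1
    rw [h2] at h1
    have h3 : Nat.card H * ∑ c, a c = 0 := by omega
    have h4 : ∑ c, a c = 0 := (Nat.mul_eq_zero.1 h3).resolve_left hpos.ne'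
    funext c
    exact Finset.sum_eq_zero_iff.1 h4 c (Finset.mem_univ _)
  have hS : Nat.card {C : ConjClasses G // ∃ g, ConjClasses.mk g = C ∧ orderOf g = r} =
      Nat.card {a : (ZMod r)ˣ ⧸ H → ℕ // (Nat.card H * ∑ c, a c ≤ n ∧ a ≠ 0) ∧ (Nat.card H * ∑ c, a c = n → P)} := by
    have hex : ∀ a : {a : (ZMod r)ˣ ⧸ H → ℕ // (Nat.card H * ∑ c, a c ≤ n ∧ a ≠ 0) ∧ (Nat.card H * ∑ c, a c = n → P)},
        ∃ g : G, g ^ r = 1 ∧ μ g = T H (n - Nat.card H * ∑ c, a.1 c) a.1 := by
      intro a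
      refine hreal _ _ (Nat.sub_add_cancel a.2.1.1) fun h0 => a.2.2 ?_
      have := a.2.1.1
      omega
    choose gg hg1 hg2 using hex
    have hord : ∀ a, orderOf (gg a) = r := by
      intro a
      refine orderOf_eq_prime (hg1 a) fun h => a.2.1.2 ?_
      have := hg2 a
      rw [h, hμ1] at this
      exact (T_inj H this).2.symm
    refine (Nat.card_congr (Equiv.ofBijective (fun a => (⟨ConjClasses.mk (gg a), gg a, rfl, hord a⟩ :
      {C : ConjClasses G // ∃ g, ConjClasses.mk g = C ∧ orderOf g = r})) ⟨?_, ?_⟩)).symm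
    · intro a b hab
      have h1 : ConjClasses.mk (gg a) = ConjClasses.mk (gg b) := congrArg Subtype.val hab
      have h2 := hconj _ _ (ConjClasses.mk_eq_mk_iff_isConj.1 h1)
      rw [hg2, hg2] at h2
      exact Subtype.ext (T_inj H h2).2
    · rintro ⟨_, g, rfl, hg⟩
      have hgr : g ^ r = 1 := by rw [← hg]; exact pow_orderOf_eq_one g
      obtain ⟨x, a, h⟩ := exists_T H (hinv g hgr)
      have h1 := hsum g hgr
      rw [h, sum_T] at h1
      have ha : a ≠ 0 := by
        rintro rfl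
        have h2 : x = n := by
          rw [← h1]; simp
        have h3 : μ g = μ 1 := by rw [h, hμ1, h2]
        have h4 := hsep g 1 hgr (one_pow _) h3
        have h5 : g = 1 := isConj_one_left.1 h4
        rw [h5, orderOf_one] at hg
        exact hr.out.one_lt.ne hg
      refine ⟨⟨a, ⟨by omega, ha⟩, fun h2 => hobs g hgr ?_⟩, ?_⟩
      · rw [h, T_zero]; omega
      · apply Subtype.ext
        refine ConjClasses.mk_eq_mk_iff_isConj.2 (hsep _ _ (hg1 _) hgr ?_)
        rw [hg2]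
        refine Eq.trans ?_ h.symm
        have h5 : n - Nat.card H * ∑ c, a c = x := by omega
        simp only [h5]
  rw [hS]
  have hfin : Finite {a : (ZMod r)ˣ ⧸ H → ℕ // Nat.card H * ∑ c, a c ≤ n} := by
    refine Nat.finite_of_card_ne_zero ?_
    rw [card_le]
    exact (Nat.choose_pos (Nat.le_add_left _ _)).ne'
  set A : Set ((ZMod r)ˣ ⧸ H → ℕ) := {a | Nat.card H * ∑ c, a c ≤ n} with hA
  have hAfin : A.Finite := hfin
  have hAc : A.ncard = (n / Nat.card H + Fintype.card ((ZMod r)ˣ ⧸ H)).choose (Fintype.card ((ZMod r)ˣ ⧸ H)) := by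
    rw [← Nat.card_coe_set_eq]; exact card_le H n
  have h0A : (0 : (ZMod r)ˣ ⧸ H → ℕ) ∈ A := by
    rw [hA, Set.mem_setOf_eq]; simp
  by_cases hP : P
  · rw [if_neg (fun h => h.2 hP), Nat.sub_zero, ← hAc]
    have h1 : (A \ {0}).ncard = A.ncard - 1 := Set.ncard_sdiff_singleton_of_mem h0A
    rw [← h1, ← Nat.card_coe_set_eq]
    apply Nat.card_congr
    apply Equiv.subtypeEquivRight
    intro a
    constructor
    · intro h; exact ⟨h.1.1, h.1.2⟩
    · intro h; exact ⟨⟨h.1, h.2⟩, fun _ => hP⟩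
  · have hn' : 0 < n := hn.resolve_left hP
    set E : Set ((ZMod r)ˣ ⧸ H → ℕ) := {a | Nat.card H * ∑ c, a c = n} with hE
    have hEA : E ⊆ A := fun a ha => le_of_eq ha
    have hEc : E.ncard = if Nat.card H ∣ n then (n / Nat.card H + Fintype.card ((ZMod r)ˣ ⧸ H) - 1).choose (Fintype.card ((ZMod r)ˣ ⧸ H) - 1) else 0 := by
      rw [← Nat.card_coe_set_eq]; exact card_eq H n
    have h0E : (0 : (ZMod r)ˣ ⧸ H → ℕ) ∉ E := by
      rw [hE, Set.mem_setOf_eq]; simp; omega
    have h1 : (A \ {0}).ncard = A.ncard - 1 := Set.ncard_sdiff_singleton_of_mem h0A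
    have h2 : ((A \ {0}) \ E).ncard = (A \ {0}).ncard - E.ncard := by
      refine Set.ncard_sdiff ?_ (hAfin.subset hEA)
      intro a ha
      exact ⟨hEA ha, fun h => h0E (by rw [← Set.mem_singleton_iff.1 h]; exact ha)⟩
    rw [h1, hAc, hEc] at h2
    have h3 : (if Nat.card H ∣ n ∧ ¬ P then
          (n / Nat.card H + Fintype.card ((ZMod r)ˣ ⧸ H) - 1).choose (Fintype.card ((ZMod r)ˣ ⧸ H) - 1) else 0) =
          if Nat.card H ∣ n then (n / Nat.card H + Fintype.card ((ZMod r)ˣ ⧸ H) - 1).choose (Fintype.card ((ZMod r)ˣ ⧸ H) - 1) else 0 := by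
      simp only [hP, not_false_eq_true, and_true]
    rw [h3, ← h2, ← Nat.card_coe_set_eq]
    apply Nat.card_congr
    apply Equiv.subtypeEquivRight
    intro a
    constructor
    · intro h; exact ⟨⟨h.1.1, h.1.2⟩, fun h' => hP (h.2 h')⟩
    · intro h; exact ⟨⟨h.1.1, h.1.2⟩, fun h' => absurd h' h.2⟩

end Cfsg.Agent.Iso44
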