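import Cfsg.Agent.H41.SemisMat
import Mathlib.FieldTheory.IsAlgClosed.AlgebraicClosure
import Mathlib.RingTheory.RootsOfUnity.PrimitiveRoots
import Mathlib.LinearAlgebra.Charpoly.ToMatrix

/-!
Eigenvalue multiplicities of matrices of prime order.
-/

set_option autoImplicit false

namespace Cfsg.Agent.Iso44

open Polynomial Matrix

variable {r : ℕ} [hr : Fact r.Prime] {E : Type*} [Field E]

/-- the power of the root of unity -/
def rt (ζ : E) (j : ZMod r) : E := ζ ^ j.val

section
variable {ζ : E} (hζ : IsPrimitiveRoot ζ r)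

include hζ

theorem rt_natCast (n : ℕ) : rt ζ (n : ZMod r) = ζ ^ n := by
  rw [rt, ZMod.val_natCast, ← pow_mod_orderOf ζ n, ← hζ.eq_orderOf]

theorem rt_injective : Function.Injective (rt ζ : ZMod r → E) := by
  intro i j h
  have := hζ.pow_inj (ZMod.val_lt i) (ZMod.val_lt j) h
  exact ZMod.val_injective r this

theorem rt_mul (k : ℕ) (j : ZMod r) : rt ζ ((k : ZMod r) * j) = rt ζ j ^ k := by
  have : (k : ZMod r) * j = ((k * j.val : ℕ) : ZMod r) := by rw [Nat.cast_mul, ZMod.natCast_zmod_val]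
  rw [this, rt_natCast hζ, rt, mul_comm, pow_mul]

theorem rt_zero : rt ζ (0 : ZMod r) = 1 := by rw [rt, ZMod.val_zero, pow_zero]

theorem exists_rt {x : E} (hx : x ^ r = 1) : ∃ j : ZMod r, rt ζ j = x := by
  obtain ⟨i, _, hi⟩ := hζ.eq_pow_of_pow_eq_one hx
  exact ⟨i, by rw [rt_natCast hζ, hi]⟩

theorem rt_pow_r (j : ZMod r) : rt ζ j ^ r = 1 := by
  rw [rt, ← pow_mul, mul_comm, pow_mul, hζ.pow_eq_one, one_pow]

variable {F : Type*} [Field F] [Algebra F E] [IsAlgClosed E]

theorem natCast_ne_zero_E : (r : E) ≠ 0 := by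
  have := hζ.neZero'
  exact this.out

/-- the exponents of the eigenvalues -/
theorem exists_exps {n : ℕ} (A : Matrix (Fin n) (Fin n) F) (hA : A ^ r = 1) :
    ∃ d : Fin n → ZMod r, ∀ k : ℕ, (A ^ k).charpoly.map (algebraMap F E) = ∏ i, (X - C (rt ζ ((k : ZMod r) * d i))) := by
  set AE : Matrix (Fin n) (Fin n) E := A.map (algebraMap F E) with hAE
  have hpow : ∀ k : ℕ, AE ^ k = (A ^ k).map (algebraMap F E) := by
    intro k
    have := map_pow ((algebraMap F E).mapMatrix (m := Fin n)) A k
    exact this.symm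
  have hAEr : AE ^ r = 1 := by
    rw [hpow, hA]
    exact Matrix.map_one _ (map_zero _) (map_one _)
  have hchar : ∀ k : ℕ, (AE ^ k).charpoly = (A ^ k).charpoly.map (algebraMap F E) := by
    intro k
    rw [hpow, Matrix.charpoly_map]
  -- eigenvalues
  have hroot : ∀ x ∈ AE.charpoly.roots, x ^ r = 1 := by
    intro x hx
    have h1 : AE.charpoly.IsRoot x := (Polynomial.mem_roots (Matrix.charpoly_monic AE).ne_zero).1 hx
    have h2 : (Matrix.toLin' AE).charpoly.IsRoot x := by
      rwa [Matrix.charpoly_toLin']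
    have h3 := (Module.End.hasEigenvalue_iff_isRoot_charpoly (Matrix.toLin' AE) x).2 h2
    obtain ⟨v, hv⟩ := h3.exists_hasEigenvector
    have h4 : ∀ k : ℕ, ((Matrix.toLin' AE) ^ k) v = x ^ k • v := by
      intro k
      induction k with
      | zero => simp
      | succ k ih => rw [pow_succ', Module.End.mul_apply, ih, map_smul, hv.apply_eq_smul, smul_smul, pow_succ]
    have h5 := h4 r
    rw [← Matrix.toLin'_pow, hAEr, Matrix.toLin'_one] at h5
    have h6 : (x ^ r - 1) • v = 0 := by rw [sub_smul, one_smul, ← h5]; simp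
    exact sub_eq_zero.1 ((smul_eq_zero.1 h6).resolve_right hv.2)
  have hsplit : AE.charpoly.Splits := IsAlgClosed.splits _
  have hcard : AE.charpoly.roots.card = n := by
    rw [← hsplit.natDegree_eq_card_roots, Matrix.charpoly_natDegree_eq_dim, Fintype.card_fin]
  -- list the roots
  obtain ⟨l, hl⟩ : ∃ l : List E, (l : Multiset E) = AE.charpoly.roots := Quot.exists_rep _
  have hlen : l.length = n := by rw [← hcard, ← hl]; rfl
  have hex : ∀ i : Fin n, ∃ j : ZMod r, rt ζ j = l.get (Fin.cast hlen.symm i) := by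
    intro i
    apply exists_rt hζ
    apply hroot
    rw [← hl]
    exact List.get_mem l _
  choose d hd using hex
  have hprod : AE.charpoly = ∏ i, (X - C (rt ζ (d i))) := by
    conv_lhs => rw [hsplit.eq_prod_roots_of_monic (Matrix.charpoly_monic AE)]
    rw [← hl]
    simp only [hd]
    subst hlen
    rw [← List.prod_ofFn, Multiset.map_coe, Multiset.prod_coe]
    congr 1
    apply List.ext_get
    · simp
    · intro i h1 h2
      simp
  -- diagonal representative
  obtain ⟨P, hP, hPA⟩ := H41.exists_simil_of_charpoly AE (Matrix.diagonal fun i => rt ζ (d i)) r (natCast_ne_zero_E hζ) hAEr (by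
      rw [Matrix.diagonal_pow]
      have : (fun i => rt ζ (d i)) ^ r = 1 := by
        funext i
        exact rt_pow_r hζ _
      rw [this]
      exact Matrix.diagonal_one) (by rw [hprod, Matrix.charpoly_diagonal])
  refine ⟨d, fun k => ?_⟩
  rw [← hchar]
  have hPk : P * AE ^ k = (Matrix.diagonal fun i => rt ζ (d i)) ^ k * P := by
    induction k with
    | zero => simp
    | succ k ih => rw [pow_succ, ← Matrix.mul_assoc, ih, Matrix.mul_assoc, hPA, ← Matrix.mul_assoc, ← pow_succ]
  have hPu : IsUnit P := by rw [Matrix.isUnit_iff_isUnit_det]; exact isUnit_iff_ne_zero.2 hP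
  obtain ⟨Pu, rfl⟩ := hPu
  have h1 : AE ^ k = (↑Pu⁻¹ : Matrix (Fin n) (Fin n) E) * ((Matrix.diagonal fun i => rt ζ (d i)) ^ k) * (Pu : Matrix (Fin n) (Fin n) E) := by
    rw [Matrix.mul_assoc, ← hPk, ← Matrix.mul_assoc, Units.inv_mul, Matrix.one_mul]
  rw [h1, Matrix.coe_units_inv, Matrix.charpoly_units_conj', Matrix.diagonal_pow, Matrix.charpoly_diagonal]
  refine Finset.prod_congr rfl fun i _ => ?_
  rw [rt_mul hζ]
  rfl

end

end Cfsg.Agent.Iso44
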