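import Cfsg.Agent.Iso44.Mu
import Cfsg.Agent.Iso44.Comb
import Mathlib.FieldTheory.Finite.Basic
import Mathlib.LinearAlgebra.Matrix.Charpoly.FiniteField

/-!
Eigenvalue multiplicities of linear maps of prime order.
-/

set_option autoImplicit false

namespace Cfsg.Agent.Iso44

open Polynomial Module

variable {r : ℕ} [hr : Fact r.Prime] {E : Type*} [Field E] {F : Type*} [Field F] [Algebra F E]
variable {V : Type*} [AddCommGroup V] [Module F V] [FiniteDimensional F V]

/-- the multiplicity of the eigenvalue -/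
noncomputable def mult (ζ : E) (g : End F V) (j : ZMod r) : ℕ :=
  (g.charpoly.map (algebraMap F E)).rootMultiplicity (rt ζ j)

section
variable {ζ : E} (hζ : IsPrimitiveRoot ζ r)

theorem mult_conj (ζ : E) {W : Type*} [AddCommGroup W] [Module F W] [FiniteDimensional F W] (g : End F V) (e : V ≃ₗ[F] W) :
    (mult ζ (e.conj g) : ZMod r → ℕ) = mult ζ g := by
  funext j
  rw [mult, mult, LinearEquiv.charpoly_conj]

theorem mult_prodMap (ζ : E) {W : Type*} [AddCommGroup W] [Module F W] [FiniteDimensional F W] (g : End F V) (h : End F W) :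
    (mult ζ (LinearMap.prodMap g h) : ZMod r → ℕ) = mult ζ g + mult ζ h := by
  funext j
  rw [mult, LinearMap.charpoly_prodMap, Polynomial.map_mul, rootMultiplicity_mul, Pi.add_apply, mult, mult]
  exact mul_ne_zero ((g.charpoly_monic.map _).ne_zero) ((h.charpoly_monic.map _).ne_zero)

include hζ

variable [IsAlgClosed E]

theorem exps_lin (g : End F V) (hg : g ^ r = 1) :
    ∃ d : Fin (finrank F V) → ZMod r, ∀ k : ℕ, (g ^ k).charpoly.map (algebraMap F E) = ∏ i, (X - C (rt ζ ((k : ZMod r) * d i))) := by
  set b := finBasis F V with hb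
  have hpow : ∀ k : ℕ, (LinearMap.toMatrix b b g) ^ k = LinearMap.toMatrix b b (g ^ k) := by
    intro k
    exact (LinearMap.toMatrix_pow b g k)
  obtain ⟨d, hd⟩ := exists_exps hζ (LinearMap.toMatrix b b g) (by
    rw [hpow, hg]
    exact LinearMap.toMatrix_one b)
  refine ⟨d, fun k => ?_⟩
  rw [← hd k, hpow, LinearMap.charpoly_toMatrix]

omit hr [IsAlgClosed E] hζ in
theorem roots_prod {n : ℕ} (f : Fin n → E) : (∏ i, (X - C (f i))).roots = Finset.univ.val.map f := by
  have : (∏ i, (X - C (f i))) = ((Finset.univ.val.map f).map fun a => X - C a).prod := by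
    rw [Multiset.map_map]; rfl
  rw [this, roots_multiset_prod_X_sub_C]

omit [IsAlgClosed E] in
theorem mult_of_exps {n : ℕ} {g : End F V} {d : Fin n → ZMod r}
    (h : g.charpoly.map (algebraMap F E) = ∏ i, (X - C (rt ζ (d i)))) (j : ZMod r) :
    mult ζ g j = (Finset.univ.filter fun i => d i = j).card := by
  classical
  rw [mult, h, ← count_roots, roots_prod, Multiset.count_map, Finset.card_def]
  congr 1
  rw [Finset.filter_val]
  refine Multiset.filter_congr fun i _ => ?_
  constructor
  · intro h; exact (rt_injective hζ h).symm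
  · intro h; rw [h]

theorem sum_mult (g : End F V) (hg : g ^ r = 1) : ∑ j : ZMod r, mult ζ g j = finrank F V := by
  obtain ⟨d, hd⟩ := exps_lin hζ g hg
  have h1 := hd 1
  simp only [pow_one, Nat.cast_one, one_mul] at h1
  simp only [mult_of_exps hζ h1]
  rw [← Finset.card_eq_sum_card_fiberwise (s := Finset.univ) (t := Finset.univ) (f := d) (fun _ _ => Finset.mem_coe.2 (Finset.mem_univ _)),
    Finset.card_univ, Fintype.card_fin]

theorem mult_pow (g : End F V) (hg : g ^ r = 1) (k : ℕ) (hk : (k : ZMod r) ≠ 0) (j : ZMod r) :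
    mult ζ (g ^ k) ((k : ZMod r) * j) = mult ζ g j := by
  obtain ⟨d, hd⟩ := exps_lin hζ g hg
  have h1 := hd 1
  simp only [pow_one, Nat.cast_one, one_mul] at h1
  rw [mult_of_exps hζ h1, mult_of_exps hζ (hd k)]
  congr 1
  ext i
  simp only [Finset.mem_filter, Finset.mem_univ, true_and]
  exact ⟨fun h => mul_left_cancel₀ hk h, fun h => by rw [h]⟩

theorem charpoly_eq_of_mult {W : Type*} [AddCommGroup W] [Module F W] [FiniteDimensional F W] (g : End F V) (hg : g ^ r = 1)
    (h : End F W) (hh : h ^ r = 1) (H : (mult ζ g : ZMod r → ℕ) = mult ζ h) : g.charpoly = h.charpoly := by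
  have key : ∀ {V : Type _} [AddCommGroup V] [Module F V] [FiniteDimensional F V] (g : End F V), g ^ r = 1 →
      g.charpoly.map (algebraMap F E) = ∏ j : ZMod r, (X - C (rt ζ j)) ^ mult ζ g j := by
    intro V _ _ _ g hg
    obtain ⟨d, hd⟩ := exps_lin hζ g hg
    have h1 := hd 1
    simp only [pow_one, Nat.cast_one, one_mul] at h1
    simp only [mult_of_exps hζ h1]
    rw [h1, ← Finset.prod_fiberwise_of_maps_to (s := Finset.univ) (t := Finset.univ) (g := d) (fun _ _ => Finset.mem_univ _)]
    refine Finset.prod_congr rfl fun j _ => ?_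
    rw [Finset.prod_congr rfl (g := fun _ => X - C (rt ζ j))]
    · rw [Finset.prod_const]
    · intro i hi
      rw [(Finset.mem_filter.1 hi).2]
  apply Polynomial.map_injective (algebraMap F E) (algebraMap F E).injective
  have e1 := key g hg
  have key2 : h.charpoly.map (algebraMap F E) = ∏ j : ZMod r, (X - C (rt ζ j)) ^ mult ζ h j := by
    obtain ⟨d, hd⟩ := exps_lin hζ h hh
    have h1 := hd 1
    simp only [pow_one, Nat.cast_one, one_mul] at h1
    simp only [mult_of_exps hζ h1]
    rw [h1, ← Finset.prod_fiberwise_of_maps_to (s := Finset.univ) (t := Finset.univ) (g := d) (fun _ _ => Finset.mem_univ _)]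
    refine Finset.prod_congr rfl fun j _ => ?_
    rw [Finset.prod_congr rfl (g := fun _ => X - C (rt ζ j))]
    · rw [Finset.prod_const]
    · intro i hi
      rw [(Finset.mem_filter.1 hi).2]
  rw [e1, key2, H]

theorem mult_one_zero : mult ζ (1 : End F V) (0 : ZMod r) = finrank F V := by
  have h1 : (mult ζ (1 : End F V) (0 : ZMod r)) = (Finset.univ.filter fun _ : Fin (finrank F V) => (0 : ZMod r) = 0).card := by
    apply mult_of_exps hζ (d := fun _ => 0)
    have : ((1 : End F V).charpoly) = (X - 1) ^ finrank F V := by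
      have := LinearMap.charpoly_one (R := F) (M := V)
      exact this
    rw [this, rt_zero hζ]
    simp
  rw [h1]
  simp

/-- Frobenius invariance -/
theorem mult_frob [Finite F] {q : ℕ} (hq : Nat.card F = q) (hqr : (q : ZMod r) ≠ 0) (g : End F V) (hg : g ^ r = 1) (j : ZMod r) :
    mult ζ g ((q : ZMod r) * j) = mult ζ g j := by
  classical
  have : Fintype F := Fintype.ofFinite F
  have h1 : (g ^ q).charpoly = g.charpoly := by
    set b := finBasis F V
    rw [← LinearMap.charpoly_toMatrix (g ^ q) b, ← LinearMap.charpoly_toMatrix g b, ← LinearMap.toMatrix_pow]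
    rw [← hq, Nat.card_eq_fintype_card, FiniteField.Matrix.charpoly_pow_card]
  have h2 := mult_pow hζ g hg q hqr j
  rw [← h2, mult, mult, h1]

/-- inversion invariance -/
theorem mult_neg (g : End F V) (hg : g ^ r = 1) {h : End F V} (hgh : g * h = 1) (hch : h.charpoly = g.charpoly) (j : ZMod r) :
    mult ζ g (-j) = mult ζ g j := by
  have hr1 : (((r - 1 : ℕ) : ℕ) : ZMod r) = -1 := by
    have h2 : ((r - 1 : ℕ) : ZMod r) + 1 = 0 := by
      rw [← Nat.cast_succ, Nat.succ_eq_add_one, Nat.sub_add_cancel hr.out.one_le, ZMod.natCast_self]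
    linear_combination h2
  have h3 : g ^ (r - 1) = h := by
    have h4 : g ^ (r - 1) * g = 1 := by rw [← pow_succ, Nat.sub_add_cancel hr.out.one_le, hg]
    calc g ^ (r - 1) = g ^ (r - 1) * (g * h) := by rw [hgh, mul_one]
      _ = h := by rw [← mul_assoc, h4, one_mul]
  have h2 := mult_pow hζ g hg (r - 1) (by rw [hr1]; exact neg_ne_zero.2 one_ne_zero) j
  rw [hr1, neg_one_mul, h3] at h2
  rw [← h2, mult, mult, hch]

end

end Cfsg.Agent.Iso44
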