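import Cfsg.Agent.Iso44.Blk
import Cfsg.Agent.H41.SpCount
import Cfsg.Agent.H42.SpSpec
import Cfsg.Agent.S2385
import Mathlib.FieldTheory.Finite.Extension
import Mathlib.RingTheory.RootsOfUnity.AlgebraicallyClosed

/-!
Orders of eigenvalues of isometries of symplectic spaces over finite fields.
-/

set_option autoImplicit false

namespace Cfsg.Agent.Iso44.SpOrd

open Polynomial Module

section NT

/-- `q ^ e = ± 1` modulo an odd prime -/
theorem eta_dvd {r : ℕ} [Fact r.Prime] {q k η : ℕ} (hk : k = orderOf (q : ZMod r))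
    (hη : (Odd k ∧ η = k) ∨ (Even k ∧ 2 * η = k)) (e : ℕ) :
    ((q : ZMod r) ^ e = 1 ∨ (q : ZMod r) ^ e = -1) ↔ η ∣ e := by
  have h1 : ((q : ZMod r) ^ e = 1 ∨ (q : ZMod r) ^ e = -1) ↔ k ∣ 2 * e := by
    rw [hk, orderOf_dvd_iff_pow_eq_one, mul_comm, pow_mul, pow_two, mul_self_eq_one_iff]
  rw [h1]
  rcases hη with ⟨ho, rfl⟩ | ⟨_, h2⟩
  · constructor
    · intro h
      exact (Nat.Coprime.dvd_of_dvd_mul_left (Nat.coprime_two_right.mpr ho) h)
    · intro h
      exact Dvd.dvd.mul_left h 2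
  · rw [← h2]
    exact Nat.mul_dvd_mul_iff_left (by norm_num)

/-- the order is positive -/
theorem ord_pos {r : ℕ} [Fact r.Prime] {q : ℕ} (hq : (q : ZMod r) ≠ 0) : 0 < orderOf (q : ZMod r) := by
  rw [orderOf_pos_iff]
  exact isOfFinOrder_iff_pow_eq_one.mpr ⟨r - 1, Nat.sub_pos_of_lt (Fact.out : r.Prime).one_lt, ZMod.pow_card_sub_one_eq_one hq⟩

theorem eta_pos {k η : ℕ} (hk : 0 < k) (hη : (Odd k ∧ η = k) ∨ (Even k ∧ 2 * η = k)) : 0 < η := by
  rcases hη with ⟨_, rfl⟩ | ⟨_, h⟩ <;> omega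

/-- sign of `q ^ η` -/
theorem eta_pow {r : ℕ} [Fact r.Prime] {q k η : ℕ} (hk : k = orderOf (q : ZMod r)) (hk0 : 0 < k)
    (hη : (Odd k ∧ η = k) ∨ (Even k ∧ 2 * η = k)) :
    (q : ZMod r) ^ η = if Odd k then 1 else -1 := by
  rcases hη with ⟨ho, rfl⟩ | ⟨he, h2⟩
  · rw [if_pos ho, hk, pow_orderOf_eq_one]
  · rw [if_neg (Nat.not_odd_iff_even.mpr he)]
    have h3 : ((q : ZMod r) ^ η) * ((q : ZMod r) ^ η) = 1 := by
      rw [← pow_add, ← two_mul, h2, hk, pow_orderOf_eq_one]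
    rcases mul_self_eq_one_iff.mp h3 with h | h
    · exfalso
      have h4 := orderOf_dvd_of_pow_eq_one h
      rw [← hk] at h4
      have := Nat.le_of_dvd (by omega) h4
      omega
    · exact h

theorem one_ne_neg_one {r : ℕ} (hr : 2 < r) : (1 : ZMod r) ≠ -1 := by
  intro h
  haveI : Fact (2 < r) := ⟨hr⟩
  exact ZMod.neg_one_ne_one h.symm

theorem zmod_neg_one_pow_ne {r : ℕ} (hr : 2 < r) {t : ℕ} (h : ((-1 : ZMod r)) ^ t = -1) : Odd t := by
  by_contra ho
  rw [Nat.not_odd_iff_even] at ho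
  rw [ho.neg_one_pow] at h
  exact one_ne_neg_one hr h

/-- both signs agree when `l = k * odd` -/
theorem pm_of_odd_mul {r s : ℕ} [Fact r.Prime] [Fact s.Prime] {q k l ηk ηl : ℕ}
    (hk : k = orderOf (q : ZMod r)) (hl : l = orderOf (q : ZMod s)) (hk0 : 0 < k) (hl0 : 0 < l)
    (hηk : (Odd k ∧ ηk = k) ∨ (Even k ∧ 2 * ηk = k)) (hηl : (Odd l ∧ ηl = l) ∨ (Even l ∧ 2 * ηl = l))
    {t : ℕ} (ht : Odd t) (hlt : l = k * t) :
    ((q : ZMod r) ^ ηl = 1 ∧ (q : ZMod s) ^ ηl = 1) ∨ ((q : ZMod r) ^ ηl = -1 ∧ (q : ZMod s) ^ ηl = -1) := by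
  have h1 := eta_pow hk hk0 hηk
  have h2 := eta_pow hl hl0 hηl
  have h3 : ηl = ηk * t := by
    rcases hηk with ⟨ho, rfl⟩ | ⟨he, h4⟩
    · have : Odd l := by rw [hlt]; exact ho.mul ht
      rcases hηl with ⟨_, h5⟩ | ⟨h5, _⟩
      · rw [h5, hlt]
      · exact absurd this (Nat.not_odd_iff_even.mpr h5)
    · have : Even l := by rw [hlt]; exact he.mul_right t
      rcases hηl with ⟨h5, _⟩ | ⟨_, h5⟩
      · exact absurd this (Nat.not_even_iff_odd.mpr h5)
      · have : 2 * ηl = 2 * (ηk * t) := by rw [h5, hlt, ← h4]; ring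
        omega
  have h4 : (q : ZMod r) ^ ηl = if Odd k then 1 else -1 := by
    rw [h3, pow_mul, h1]
    split_ifs
    · rw [one_pow]
    · exact ht.neg_one_pow
  have h5 : Odd l ↔ Odd k := by
    rw [hlt, Nat.odd_mul]
    exact ⟨fun h => h.1, fun h => ⟨h, ht⟩⟩
  rw [h4, h2]
  by_cases ho : Odd k
  · left
    rw [if_pos ho, if_pos (h5.mpr ho)]
    exact ⟨rfl, rfl⟩
  · right
    rw [if_neg ho, if_neg (fun h => ho (h5.mp h))]
    exact ⟨rfl, rfl⟩

/-- the converse -/
theorem odd_mul_of_pm {r s : ℕ} [Fact r.Prime] [Fact s.Prime] (hr : 2 < r) (hs : 2 < s) {q k l ηl : ℕ}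
    (hk : k = orderOf (q : ZMod r)) (hl : l = orderOf (q : ZMod s)) (hl0 : 0 < l)
    (hηl : (Odd l ∧ ηl = l) ∨ (Even l ∧ 2 * ηl = l))
    (h : ((q : ZMod r) ^ ηl = 1 ∧ (q : ZMod s) ^ ηl = 1) ∨ ((q : ZMod r) ^ ηl = -1 ∧ (q : ZMod s) ^ ηl = -1)) :
    ∃ t : ℕ, Odd t ∧ l = k * t := by
  have h2 := eta_pow hl hl0 hηl
  rcases h with ⟨h3, h4⟩ | ⟨h3, h4⟩
  · rw [h4] at h2
    have ho : Odd l := by
      by_contra ho
      rw [if_neg ho] at h2
      exact one_ne_neg_one hs h2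
    rcases hηl with ⟨_, h5⟩ | ⟨h5, _⟩
    · rw [h5] at h3
      have h6 := orderOf_dvd_of_pow_eq_one h3
      rw [← hk] at h6
      obtain ⟨t, ht⟩ := h6
      refine ⟨t, ?_, ht⟩
      rw [ht, Nat.odd_mul] at ho
      exact ho.2
    · exact absurd ho (Nat.not_odd_iff_even.mpr h5)
  · rw [h4] at h2
    have ho : ¬ Odd l := by
      intro ho
      rw [if_pos ho] at h2
      exact one_ne_neg_one hs h2.symm
    rcases hηl with ⟨h5, _⟩ | ⟨_, h5⟩
    · exact absurd h5 ho
    · have h6 : (q : ZMod r) ^ l = 1 := by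
        rw [← h5, mul_comm, pow_mul, h3, neg_one_sq]
      have h7 := orderOf_dvd_of_pow_eq_one h6
      rw [← hk] at h7
      obtain ⟨t, ht⟩ := h7
      refine ⟨t, ?_, ht⟩
      by_contra hto
      rw [Nat.not_odd_iff_even] at hto
      obtain ⟨u, hu⟩ := hto
      have h8 : ηl = k * u := by
        have : 2 * ηl = 2 * (k * u) := by rw [h5, ht, hu]; ring
        omega
      rw [h8, pow_mul, hk, pow_orderOf_eq_one, one_pow] at h3
      exact one_ne_neg_one hr h3

end NT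

section orb

variable {G : Type*} [Group G]

/-- the orbit of `ν` under `x ↦ x ^ q` and `x ↦ x⁻¹` -/
def orb (q e : ℕ) (ν : G) (x : Fin e × Bool) : G := if x.2 then ν ^ (q ^ (x.1 : ℕ)) else (ν ^ (q ^ (x.1 : ℕ)))⁻¹

theorem orderOf_orb {q e : ℕ} {ν : G} {N : ℕ} (hν : orderOf ν = N) (hqN : Nat.Coprime q N) (x : Fin e × Bool) :
    orderOf (orb q e ν x) = N := by
  have h1 : orderOf (ν ^ (q ^ (x.1 : ℕ))) = N := by
    rw [Nat.Coprime.orderOf_pow, hν]
    rw [hν]
    exact (hqN.pow_left _).symm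
  unfold orb
  split_ifs
  · exact h1
  · rw [orderOf_inv, h1]

theorem orb_injective {q e : ℕ} {ν : G} {N : ℕ} (hν : orderOf ν = N) (hN : 2 < N) (hqN : Nat.Coprime q N)
    (hmin : ∀ j, 0 < j → j < e → ¬ ((q : ZMod N) ^ j = 1 ∨ (q : ZMod N) ^ j = -1)) :
    Function.Injective (orb q e ν) := by
  have hu : IsUnit (q : ZMod N) := (ZMod.isUnit_iff_coprime q N).mpr hqN
  let σ : Bool → ℤ := fun b => if b then 1 else -1
  have h1 : ∀ x : Fin e × Bool, orb q e ν x = ν ^ (σ x.2 * (q : ℤ) ^ (x.1 : ℕ)) := by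
    intro x
    unfold orb
    rcases hx : x.2 with _ | _
    · simp only [σ, Bool.false_eq_true, if_false, neg_mul, one_mul, zpow_neg]
      norm_cast
    · simp only [σ, if_true, one_mul]
      norm_cast
  have h2 : ∀ x y : Fin e × Bool, (x.1 : ℕ) ≤ (y.1 : ℕ) → orb q e ν x = orb q e ν y → x = y := by
    intro x y hxy h
    rw [h1, h1, zpow_eq_zpow_iff_modEq, hν, ← ZMod.intCast_eq_intCast_iff] at h
    push_cast at h
    have h3 : ((y.1 : ℕ)) = (x.1 : ℕ) + ((y.1 : ℕ) - (x.1 : ℕ)) := by omega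
    rw [h3, pow_add] at h
    have h4 : ((σ x.2 : ℤ) : ZMod N) = ((σ y.2 : ℤ) : ZMod N) * (q : ZMod N) ^ ((y.1 : ℕ) - (x.1 : ℕ)) := by
      have hu' := hu.pow (x.1 : ℕ)
      apply hu'.mul_right_cancel
      rw [h]; ring
    have h5 : (q : ZMod N) ^ ((y.1 : ℕ) - (x.1 : ℕ)) = 1 ∨ (q : ZMod N) ^ ((y.1 : ℕ) - (x.1 : ℕ)) = -1 := by
      rcases hx : x.2 with _ | _ <;> rcases hy : y.2 with _ | _ <;> rw [hx, hy] at h4 <;> simp only [σ, Bool.false_eq_true, if_false, if_true, Int.cast_neg, Int.cast_one, neg_mul, one_mul, neg_inj] at h4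
      · exact Or.inl h4.symm
      · exact Or.inr h4.symm
      · right; rw [h4]; ring
      · exact Or.inl h4.symm
    have h6 : (y.1 : ℕ) - (x.1 : ℕ) = 0 := by
      by_contra h0
      exact hmin _ (Nat.pos_of_ne_zero h0) (by omega) h5
    rw [h6, pow_zero, mul_one] at h4
    have h7 : x.2 = y.2 := by
      rcases hx : x.2 with _ | _ <;> rcases hy : y.2 with _ | _ <;> rw [hx, hy] at h4 <;> simp only [σ, Bool.false_eq_true, if_false, if_true, Int.cast_neg, Int.cast_one] at h4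
      · exact absurd h4.symm (one_ne_neg_one hN)
      · exact absurd h4 (one_ne_neg_one hN)
    exact Prod.ext (Fin.ext (by omega)) h7
  intro x y h
  rcases le_total (x.1 : ℕ) (y.1 : ℕ) with hxy | hxy
  · exact h2 x y hxy h
  · exact (h2 y x hxy h.symm).symm

end orb

section eig

variable {F : Type*} [Field F] {ι : Type*} [Fintype ι] [DecidableEq ι]

local notation "K" => AlgebraicClosure F

/-- the eigenvalues of an invertible matrix in the algebraic closure -/
def eig (M : Matrix ι ι F) : Set (AlgebraicClosure F)ˣ := {ν | aeval (ν : AlgebraicClosure F) M.charpoly = 0}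

theorem mem_eig_iff (M : Matrix ι ι F) (ν : (AlgebraicClosure F)ˣ) :
    ν ∈ eig M ↔ (ν : AlgebraicClosure F) ∈ spectrum (AlgebraicClosure F) (M.map (algebraMap F (AlgebraicClosure F))) := by
  rw [Matrix.mem_spectrum_iff_isRoot_charpoly, Matrix.charpoly_map, IsRoot.def, eval_map_algebraMap]
  rfl

theorem map_pow' (M : Matrix ι ι F) (m : ℕ) :
    (M ^ m).map (algebraMap F (AlgebraicClosure F)) = (M.map (algebraMap F (AlgebraicClosure F))) ^ m :=
  map_pow ((algebraMap F (AlgebraicClosure F)).mapMatrix) M m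

theorem eig_pow {M : Matrix ι ι F} {ν : (AlgebraicClosure F)ˣ} (h : ν ∈ eig M) (m : ℕ) : ν ^ m ∈ eig (M ^ m) := by
  rw [mem_eig_iff] at h ⊢
  rw [map_pow', Units.val_pow_eq_pow_val]
  exact spectrum.pow_mem_pow _ m h

theorem eig_of_pow [Nonempty ι] {M : Matrix ι ι F} {m : ℕ} (hm : 0 < m) {ν : (AlgebraicClosure F)ˣ} (h : ν ∈ eig (M ^ m)) :
    ∃ μ ∈ eig M, μ ^ m = ν := by
  rw [mem_eig_iff, map_pow', spectrum.map_pow_of_pos _ hm] at h
  obtain ⟨x, hx, hxν⟩ := h
  have hx0 : x ≠ 0 := by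
    rintro rfl
    simp only [zero_pow hm.ne'] at hxν
    exact ν.ne_zero hxν.symm
  refine ⟨Units.mk0 x hx0, ?_, ?_⟩
  · rw [mem_eig_iff]; exact hx
  · ext
    simpa using hxν

theorem eig_frob [Fintype F] {M : Matrix ι ι F} {ν : (AlgebraicClosure F)ˣ} (h : ν ∈ eig M) (j : ℕ) : ν ^ (Fintype.card F ^ j) ∈ eig M := by
  have h1 : ∀ ν : (AlgebraicClosure F)ˣ, ν ∈ eig M → ν ^ (Fintype.card F) ∈ eig M := by
    intro ν hν
    show aeval _ _ = 0
    have h2 : aeval (ν : AlgebraicClosure F) (expand F (Fintype.card F) M.charpoly) = 0 := by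
      rw [FiniteField.expand_card, map_pow, show aeval (ν : AlgebraicClosure F) M.charpoly = 0 from hν,
        zero_pow Fintype.card_ne_zero]
    rwa [expand_aeval] at h2
  induction j with
  | zero => rwa [pow_zero, pow_one]
  | succ j ih =>
    rw [pow_succ, pow_mul]
    exact h1 _ ih

theorem eig_inv {n : ℕ} (A : Matrix.symplecticGroup (Fin n) F) {ν : (AlgebraicClosure F)ˣ} (h : ν ∈ eig (A : Matrix (Fin n ⊕ Fin n) (Fin n ⊕ Fin n) F)) :
    ν⁻¹ ∈ eig (A : Matrix (Fin n ⊕ Fin n) (Fin n ⊕ Fin n) F) := by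
  have h1 := Cfsg.Agent.S2385.sp_charpoly n A
  show aeval _ _ = 0
  rw [← h1]
  have h2 : aeval (ν : AlgebraicClosure F) (A : Matrix (Fin n ⊕ Fin n) (Fin n ⊕ Fin n) F).charpoly = 0 := h
  rw [aeval_def] at h2 ⊢
  haveI : Invertible (ν : AlgebraicClosure F) := ν.invertible
  have h3 : ⅟(ν : AlgebraicClosure F) = ((ν⁻¹ : (AlgebraicClosure F)ˣ) : AlgebraicClosure F) := by
    simp
  rw [← h3, eval₂_reverse_eq_zero_iff]
  exact h2

theorem eig_card_le {M : Matrix ι ι F} (S : Finset (AlgebraicClosure F)ˣ) (hS : ∀ ν ∈ S, ν ∈ eig M) : S.card ≤ Fintype.card ι := by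
  classical
  have h0 : M.charpoly.map (algebraMap F (AlgebraicClosure F)) ≠ 0 := ((Matrix.charpoly_monic M).map _).ne_zero
  have h1 : (S.image (fun ν : (AlgebraicClosure F)ˣ => (ν : AlgebraicClosure F))) ⊆ (M.charpoly.map (algebraMap F (AlgebraicClosure F))).roots.toFinset := by
    intro x hx
    rw [Finset.mem_image] at hx
    obtain ⟨ν, hν, rfl⟩ := hx
    rw [Multiset.mem_toFinset, mem_roots h0, IsRoot.def, eval_map_algebraMap]
    exact hS ν hν
  calc S.card = (S.image (fun ν : (AlgebraicClosure F)ˣ => (ν : AlgebraicClosure F))).card := (Finset.card_image_of_injective _ Units.val_injective).symm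
    _ ≤ _ := Finset.card_le_card h1
    _ ≤ _ := Multiset.toFinset_card_le _
    _ ≤ _ := card_roots' _
    _ = Fintype.card ι := by
      rw [natDegree_map, Matrix.charpoly_natDegree_eq_dim]

/-- a `p'`-element other than `1` has an eigenvalue other than `1` -/
theorem exists_eig_ne_one (p : ℕ) [Fact p.Prime] [CharP F p] {M : Matrix ι ι F} {N : ℕ} (hMN : M ^ N = 1) (hpN : Nat.Coprime p N) (hM : M ≠ 1) :
    ∃ ν ∈ eig M, ν ≠ 1 := by
  by_contra hcon
  push Not at hcon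
  apply hM
  have hdet : M.det ≠ 0 := by
    intro h0
    have h1 : M.det ^ N = 1 := by rw [← Matrix.det_pow, hMN, Matrix.det_one]
    rcases Nat.eq_zero_or_pos N with h2 | h2
    · rw [h2] at hpN
      exact (Fact.out : p.Prime).one_lt.ne' ((Nat.coprime_zero_right p).mp hpN)
    · rw [h0, zero_pow h2.ne'] at h1
      exact zero_ne_one h1
  set P := M.charpoly.map (algebraMap F (AlgebraicClosure F)) with hP
  have hPm : P.Monic := (Matrix.charpoly_monic M).map _
  have hroots : ∀ x ∈ P.roots, x = 1 := by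
    intro x hx
    rw [mem_roots hPm.ne_zero, IsRoot.def, eval_map_algebraMap] at hx
    have hx0 : x ≠ 0 := by
      rintro rfl
      rw [← coeff_zero_eq_aeval_zero'] at hx
      apply hdet
      have h4 : M.charpoly.coeff 0 = 0 := (map_eq_zero_iff _ (algebraMap F (AlgebraicClosure F)).injective).mp hx
      rw [Matrix.det_eq_sign_charpoly_coeff, h4, mul_zero]
    have := hcon (Units.mk0 x hx0) hx
    have h3 := congrArg (fun ν : (AlgebraicClosure F)ˣ => (ν : AlgebraicClosure F)) this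
    simpa using h3
  have hsplit : P = (X - C 1) ^ (Fintype.card ι) := by
    have h1 := (IsAlgClosed.splits P).eq_prod_roots
    rw [hPm.leadingCoeff, C_1, one_mul] at h1
    have h2 : P.roots = Multiset.replicate P.roots.card 1 := Multiset.eq_replicate.mpr ⟨rfl, hroots⟩
    rw [h2, Multiset.map_replicate, Multiset.prod_replicate] at h1
    rw [h1]
    congr 1
    have h3 := congrArg natDegree h1
    rw [natDegree_pow, natDegree_X_sub_C, mul_one, hP, natDegree_map, Matrix.charpoly_natDegree_eq_dim] at h3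
    exact h3.symm
  have h1 : M.charpoly = (X - 1) ^ (Fintype.card ι) := by
    apply Polynomial.map_injective _ (algebraMap F (AlgebraicClosure F)).injective
    rw [← hP, hsplit]
    simp
  have h2 : (M - 1) ^ (Fintype.card ι) = 0 := by
    have := Matrix.aeval_self_charpoly M
    rw [h1] at this
    simpa using this
  have h3 : (M - 1) ^ (p ^ (Fintype.card ι)) = 0 := by
    have h4 : Fintype.card ι ≤ p ^ (Fintype.card ι) := (Nat.lt_pow_self (Fact.out : p.Prime).one_lt).le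
    rw [← Nat.sub_add_cancel h4, pow_add, h2, mul_zero]
  rcases isEmpty_or_nonempty ι with he | he
  · exact Subsingleton.elim _ _
  haveI : CharP (Matrix ι ι F) p := inferInstance
  rw [sub_pow_char_pow_of_commute p _ (Commute.one_right M), one_pow, sub_eq_zero] at h3
  have h5 := orderOf_dvd_of_pow_eq_one h3
  have h6 := orderOf_dvd_of_pow_eq_one hMN
  have h7 : orderOf M = 1 := by
    apply Nat.eq_one_of_dvd_coprimes (hpN.pow_left _) h5 h6
  exact orderOf_eq_one_iff.mp h7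

/-- the orbit of an eigenvalue of a symplectic matrix -/
theorem orb_mem_eig [Fintype F] {n : ℕ} (A : Matrix.symplecticGroup (Fin n) F) {ν : (AlgebraicClosure F)ˣ}
    (h : ν ∈ eig (A : Matrix (Fin n ⊕ Fin n) (Fin n ⊕ Fin n) F)) (e : ℕ) (x : Fin e × Bool) :
    orb (Fintype.card F) e ν x ∈ eig (A : Matrix (Fin n ⊕ Fin n) (Fin n ⊕ Fin n) F) := by
  unfold orb
  split_ifs
  · exact eig_frob h _
  · exact eig_inv A (eig_frob h _)

theorem card_orb_le [Fintype F] {n : ℕ} (A : Matrix.symplecticGroup (Fin n) F) {ν : (AlgebraicClosure F)ˣ}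
    (h : ν ∈ eig (A : Matrix (Fin n ⊕ Fin n) (Fin n ⊕ Fin n) F)) {e N : ℕ} (hν : orderOf ν = N) (hN : 2 < N)
    (hqN : Nat.Coprime (Fintype.card F) N)
    (hmin : ∀ j, 0 < j → j < e → ¬ (((Fintype.card F : ℕ) : ZMod N) ^ j = 1 ∨ ((Fintype.card F : ℕ) : ZMod N) ^ j = -1)) :
    e ≤ n := by
  classical
  have h1 := eig_card_le (M := (A : Matrix (Fin n ⊕ Fin n) (Fin n ⊕ Fin n) F))
    (Finset.univ.image (orb (Fintype.card F) e ν)) (by
      intro μ hμ
      rw [Finset.mem_image] at hμ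
      obtain ⟨x, _, rfl⟩ := hμ
      exact orb_mem_eig A h e x)
  rw [Finset.card_image_of_injective _ (orb_injective hν hN hqN hmin), Finset.card_univ, Fintype.card_prod, Fintype.card_fin,
    Fintype.card_bool, Fintype.card_sum, Fintype.card_fin] at h1
  omega

theorem card_orb_le₂ [Fintype F] {n : ℕ} (A : Matrix.symplecticGroup (Fin n) F) {ν μ : (AlgebraicClosure F)ˣ}
    (h : ν ∈ eig (A : Matrix (Fin n ⊕ Fin n) (Fin n ⊕ Fin n) F)) (h' : μ ∈ eig (A : Matrix (Fin n ⊕ Fin n) (Fin n ⊕ Fin n) F))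
    {e N : ℕ} (hν : orderOf ν = N) (hN : 2 < N)
    (hqN : Nat.Coprime (Fintype.card F) N)
    (hmin : ∀ j, 0 < j → j < e → ¬ (((Fintype.card F : ℕ) : ZMod N) ^ j = 1 ∨ ((Fintype.card F : ℕ) : ZMod N) ^ j = -1))
    {e' N' : ℕ} (hμ : orderOf μ = N') (hN' : 2 < N')
    (hqN' : Nat.Coprime (Fintype.card F) N')
    (hmin' : ∀ j, 0 < j → j < e' → ¬ (((Fintype.card F : ℕ) : ZMod N') ^ j = 1 ∨ ((Fintype.card F : ℕ) : ZMod N') ^ j = -1))
    (hNN : N ≠ N') : e + e' ≤ n := by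
  classical
  have hdisj : Disjoint (Finset.univ.image (orb (Fintype.card F) e ν)) (Finset.univ.image (orb (Fintype.card F) e' μ)) := by
    rw [Finset.disjoint_left]
    intro x hx hy
    rw [Finset.mem_image] at hx hy
    obtain ⟨a, _, rfl⟩ := hx
    obtain ⟨b, _, hb⟩ := hy
    have h1 := orderOf_orb hν hqN a
    have h2 := orderOf_orb hμ hqN' b
    rw [hb, h1] at h2
    exact hNN h2
  have h1 := eig_card_le (M := (A : Matrix (Fin n ⊕ Fin n) (Fin n ⊕ Fin n) F))
    (Finset.univ.image (orb (Fintype.card F) e ν) ∪ Finset.univ.image (orb (Fintype.card F) e' μ)) (by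
      intro κ hκ
      rw [Finset.mem_union, Finset.mem_image, Finset.mem_image] at hκ
      rcases hκ with ⟨x, _, rfl⟩ | ⟨x, _, rfl⟩
      · exact orb_mem_eig A h e x
      · exact orb_mem_eig A h' e' x)
  rw [Finset.card_union_of_disjoint hdisj, Finset.card_image_of_injective _ (orb_injective hν hN hqN hmin),
    Finset.card_image_of_injective _ (orb_injective hμ hN' hqN' hmin'), Finset.card_univ, Finset.card_univ, Fintype.card_prod,
    Fintype.card_prod, Fintype.card_fin, Fintype.card_fin,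
    Fintype.card_bool, Fintype.card_sum, Fintype.card_fin] at h1
  omega

end eig

section exist

variable {F : Type*} [Field F]

/-- symplectic matrices with given characteristic polynomial -/
theorem exists_sp (n : ℕ) (k : F[X]) (hk : k.Monic) (hdeg : k.natDegree = n) :
    ∃ B : Matrix.symplecticGroup (Fin n) F, ∀ x : AlgebraicClosure F, x ≠ 0 →
      aeval x (B : Matrix (Fin n ⊕ Fin n) (Fin n ⊕ Fin n) F).charpoly = x ^ n * aeval (x + x⁻¹) k := by
  obtain ⟨D, L, hD, hL, hdet, hDL⟩ := Cfsg.Agent.H41.exists_symm_gram n k hk hdeg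
  refine ⟨⟨_, Cfsg.Agent.H41.mem_sp_of_symm n D L hL hdet hDL⟩, fun x hx => ?_⟩
  rw [← hD]
  exact Cfsg.Agent.H41.eval_charpoly_sp n D L hdet x hx

/-- the degree of `ν + ν⁻¹` -/
theorem natDegree_dvd [Fintype F] {e : ℕ} (ν : (AlgebraicClosure F)ˣ)
    (h : ν ^ (Fintype.card F ^ e) = ν ∨ ν ^ (Fintype.card F ^ e) = ν⁻¹) :
    (minpoly F ((ν : AlgebraicClosure F) + ((ν⁻¹ : (AlgebraicClosure F)ˣ) : AlgebraicClosure F))).natDegree ∣ e := by
  have hint : IsIntegral F ((ν : AlgebraicClosure F) + ((ν⁻¹ : (AlgebraicClosure F)ˣ) : AlgebraicClosure F)) :=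
    Algebra.IsIntegral.isIntegral _
  apply (minpoly.irreducible hint).natDegree_dvd_of_dvd_X_pow_card_pow_sub_X
  apply minpoly.dvd
  rw [Nat.card_eq_fintype_card, map_sub, map_pow, aeval_X, sub_eq_zero]
  obtain ⟨p, hp⟩ := CharP.exists F
  haveI := hp
  obtain ⟨m, hpp, hm⟩ := FiniteField.card F p
  haveI : Fact p.Prime := ⟨hpp⟩
  haveI : CharP (AlgebraicClosure F) p := charP_of_injective_algebraMap (algebraMap F (AlgebraicClosure F)).injective p
  have h2 : (ν : AlgebraicClosure F) ^ (Fintype.card F ^ e) + ((ν⁻¹ : (AlgebraicClosure F)ˣ) : AlgebraicClosure F) ^ (Fintype.card F ^ e) =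
      (ν : AlgebraicClosure F) + ((ν⁻¹ : (AlgebraicClosure F)ˣ) : AlgebraicClosure F) := by
    rw [← Units.val_pow_eq_pow_val, ← Units.val_pow_eq_pow_val, inv_pow]
    rcases h with h | h
    · rw [h]
    · rw [h, inv_inv, add_comm]
  refine Eq.trans ?_ h2
  rw [hm, ← pow_mul, add_pow_char_pow]

theorem pow_card_of_pm [Fintype F] {N e : ℕ} {ν : (AlgebraicClosure F)ˣ} (hν : orderOf ν = N)
    (h : ((Fintype.card F : ℕ) : ZMod N) ^ e = 1 ∨ ((Fintype.card F : ℕ) : ZMod N) ^ e = -1) :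
    ν ^ (Fintype.card F ^ e) = ν ∨ ν ^ (Fintype.card F ^ e) = ν⁻¹ := by
  rcases h with h | h
  · left
    have h1 : (((Fintype.card F ^ e : ℕ) : ℤ) : ZMod N) = ((1 : ℤ) : ZMod N) := by push_cast; exact h
    rw [ZMod.intCast_eq_intCast_iff, ← hν, ← zpow_eq_zpow_iff_modEq, zpow_natCast, zpow_one] at h1
    exact h1
  · right
    have h1 : (((Fintype.card F ^ e : ℕ) : ℤ) : ZMod N) = ((-1 : ℤ) : ZMod N) := by push_cast; exact h
    rw [ZMod.intCast_eq_intCast_iff, ← hν, ← zpow_eq_zpow_iff_modEq, zpow_natCast, zpow_neg, zpow_one] at h1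
    exact h1

theorem exists_unit_order (p : ℕ) [Fact p.Prime] [CharP F p] {N : ℕ} (hpN : Nat.Coprime p N) :
    ∃ ν : (AlgebraicClosure F)ˣ, orderOf ν = N := by
  haveI : CharP (AlgebraicClosure F) p := charP_of_injective_algebraMap (algebraMap F (AlgebraicClosure F)).injective p
  haveI : NeZero ((N : ℕ) : AlgebraicClosure F) := by
    refine ⟨fun h => ?_⟩
    have h1 := (CharP.cast_eq_zero_iff (AlgebraicClosure F) p N).mp h
    have h2 := Nat.Coprime.eq_one_of_dvd hpN h1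
    exact (Fact.out : p.Prime).one_lt.ne' h2
  obtain ⟨ζ, hζ⟩ := HasEnoughRootsOfUnity.exists_primitiveRoot (AlgebraicClosure F) N
  have hN0 : N ≠ 0 := by
    rintro rfl
    exact (Fact.out : p.Prime).one_lt.ne' ((Nat.coprime_zero_right p).mp hpN)
  have h1 := hζ.isUnit hN0
  obtain ⟨u, hu⟩ := h1
  refine ⟨u, ?_⟩
  rw [← orderOf_units, hu, ← hζ.eq_orderOf]

/-- the order of an eigenvalue divides the order of the matrix -/
theorem orderOf_dvd_of_eig {ι : Type*} [Fintype ι] [DecidableEq ι] {M : Matrix ι ι F} {ν : (AlgebraicClosure F)ˣ} (h : ν ∈ eig M)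
    {m : ℕ} (hm : M ^ m = 1) : orderOf ν ∣ m := by
  have h1 := eig_pow h m
  rw [hm] at h1
  have h2 : aeval ((ν ^ m : (AlgebraicClosure F)ˣ) : AlgebraicClosure F) (1 : Matrix ι ι F).charpoly = 0 := h1
  rw [Matrix.charpoly_one] at h2
  have h3 : (((ν ^ m : (AlgebraicClosure F)ˣ) : AlgebraicClosure F) - 1) ^ Fintype.card ι = 0 := by
    simpa using h2
  have h4 : ((ν ^ m : (AlgebraicClosure F)ˣ) : AlgebraicClosure F) - 1 = 0 := eq_zero_of_pow_eq_zero h3
  apply orderOf_dvd_of_pow_eq_one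
  ext
  rw [Units.val_one]
  exact sub_eq_zero.mp h4

theorem psp_pow_iff {n : ℕ} (A : Matrix.symplecticGroup (Fin n) F) (m : ℕ) :
    ((A : Cfsg.PSp n F)) ^ m = 1 ↔ ((A : Matrix (Fin n ⊕ Fin n) (Fin n ⊕ Fin n) F) ^ m = 1 ∨ (A : Matrix (Fin n ⊕ Fin n) (Fin n ⊕ Fin n) F) ^ m = -1) := by
  rw [Cfsg.Agent.H42.SpSpec.psp_pow_eq_one_iff]
  unfold Cfsg.Agent.H42.SpSpec.lin
  rw [← map_pow]
  constructor
  · rintro (h | h)
    · left
      apply (Matrix.toLinAlgEquiv' (R := F) (n := Fin n ⊕ Fin n)).injective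
      rw [h, map_one]
    · right
      apply (Matrix.toLinAlgEquiv' (R := F) (n := Fin n ⊕ Fin n)).injective
      rw [h, map_neg, map_one]
  · rintro (h | h)
    · left; rw [h, map_one]
    · right; rw [h, map_neg, map_one]

/-- lifts of elements of odd order -/
theorem exists_sp_of_odd {n : ℕ} (x : Cfsg.PSp n F) (hodd : Odd (orderOf x)) :
    ∃ A : Matrix.symplecticGroup (Fin n) F, orderOf A = orderOf x := by
  obtain ⟨A, rfl⟩ := QuotientGroup.mk_surjective x
  obtain ⟨k, hk⟩ := hodd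
  set s := orderOf ((A : Cfsg.PSp n F)) with hs
  have hs' : (A : Cfsg.PSp n F) ^ s = 1 := pow_orderOf_eq_one _
  have h2 : A ^ (s * 2) = 1 := by
    apply Subtype.ext
    show ((A : Matrix (Fin n ⊕ Fin n) (Fin n ⊕ Fin n) F)) ^ (s * 2) = 1
    rw [pow_mul]
    rcases (psp_pow_iff A s).mp hs' with h | h
    · rw [h, one_pow]
    · rw [h, neg_one_sq]
  refine ⟨A ^ (s + 1), ?_⟩
  apply Nat.dvd_antisymm
  · apply orderOf_dvd_of_pow_eq_one
    rw [← pow_mul, hk, show (2 * k + 1 + 1) * (2 * k + 1) = (2 * k + 1) * 2 * (k + 1) by ring, pow_mul, ← hk, h2, one_pow]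
  · have h3 : (A ^ (s + 1)) ^ orderOf (A ^ (s + 1)) = 1 := pow_orderOf_eq_one _
    rw [← pow_mul] at h3
    have h4 : (A : Cfsg.PSp n F) ^ ((s + 1) * orderOf (A ^ (s + 1))) = 1 := by
      have := congrArg (fun B : Matrix.symplecticGroup (Fin n) F => (B : Cfsg.PSp n F)) h3
      exact this
    have h5 := orderOf_dvd_of_pow_eq_one h4
    have h6 : Nat.Coprime s (s + 1) := by
      rw [Nat.coprime_self_add_right]
      exact Nat.coprime_one_right s
    exact h6.dvd_of_dvd_mul_left h5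

/-- elements of odd order in the projective group from eigenvalues -/
theorem dvd_orderOf_psp {n : ℕ} (A : Matrix.symplecticGroup (Fin n) F) {ν : (AlgebraicClosure F)ˣ}
    (h : ν ∈ eig (A : Matrix (Fin n ⊕ Fin n) (Fin n ⊕ Fin n) F)) (hodd : Odd (orderOf ν)) : orderOf ν ∣ orderOf (A : Cfsg.PSp n F) := by
  have h1 := (psp_pow_iff A (orderOf (A : Cfsg.PSp n F))).mp (pow_orderOf_eq_one _)
  have h2 : (A : Matrix (Fin n ⊕ Fin n) (Fin n ⊕ Fin n) F) ^ (orderOf (A : Cfsg.PSp n F) * 2) = 1 := by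
    rw [pow_mul]
    rcases h1 with h | h
    · rw [h, one_pow]
    · rw [h, neg_one_sq]
  exact (Nat.coprime_two_right.mpr hodd).dvd_of_dvd_mul_right (orderOf_dvd_of_eig h h2)

end exist

section assembly

theorem ne_zero_of_coprime {r q : ℕ} [Fact r.Prime] (h : Nat.Coprime q r) : (q : ZMod r) ≠ 0 := by
  intro h0
  rw [ZMod.natCast_eq_zero_iff] at h0
  have := Nat.Coprime.eq_one_of_dvd h.symm h0
  exact (Fact.out : r.Prime).one_lt.ne' this

theorem min_of_eta {r : ℕ} [Fact r.Prime] {q k η : ℕ} (hk : k = orderOf (q : ZMod r))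
    (hη : (Odd k ∧ η = k) ∨ (Even k ∧ 2 * η = k)) (j : ℕ) (hj0 : 0 < j) (hj : j < η) :
    ¬ ((q : ZMod r) ^ j = 1 ∨ (q : ZMod r) ^ j = -1) := by
  rw [eta_dvd hk hη]
  intro h
  have := Nat.le_of_dvd hj0 h
  omega

theorem exists_of_dvd {G : Type*} [Group G] [Finite G] {N : ℕ} {x : G} (h : N ∣ orderOf x) : N ∈ Set.range (orderOf : G → ℕ) := by
  obtain ⟨c, hc⟩ := h
  have h0 : 0 < orderOf x := orderOf_pos x
  have hc0 : c ≠ 0 := by
    rintro rfl
    rw [hc, mul_zero] at h0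
    exact lt_irrefl 0 h0
  refine ⟨x ^ c, ?_⟩
  rw [orderOf_pow_of_dvd hc0 ⟨N, by rw [hc, mul_comm]⟩, hc, Nat.mul_div_cancel _ (Nat.pos_of_ne_zero hc0)]

theorem pm_mul {r s q e : ℕ} (hrs : Nat.Coprime r s)
    (h : ((q : ZMod r) ^ e = 1 ∧ (q : ZMod s) ^ e = 1) ∨ ((q : ZMod r) ^ e = -1 ∧ (q : ZMod s) ^ e = -1)) :
    ((q : ZMod (r * s)) ^ e = 1 ∨ (q : ZMod (r * s)) ^ e = -1) := by
  have key : ∀ a : ℤ, ((q : ZMod r) ^ e = (a : ZMod r)) → ((q : ZMod s) ^ e = (a : ZMod s)) → ((q : ZMod (r * s)) ^ e = (a : ZMod (r * s))) := by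
    intro a h1 h2
    have h3 : (((q ^ e : ℕ) : ℤ) : ZMod r) = (a : ZMod r) := by push_cast; exact h1
    have h4 : (((q ^ e : ℕ) : ℤ) : ZMod s) = (a : ZMod s) := by push_cast; exact h2
    rw [ZMod.intCast_eq_intCast_iff] at h3 h4
    have h5 : (((q ^ e : ℕ) : ℤ) : ZMod (r * s)) = (a : ZMod (r * s)) := by
      rw [ZMod.intCast_eq_intCast_iff]
      push_cast
      exact (Int.modEq_and_modEq_iff_modEq_mul (by simpa using hrs)).mp ⟨h3, h4⟩
    push_cast at h5
    exact h5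
  rcases h with ⟨h1, h2⟩ | ⟨h1, h2⟩
  · left
    have := key 1 (by push_cast; exact h1) (by push_cast; exact h2)
    simpa using this
  · right
    have := key (-1) (by push_cast; exact h1) (by push_cast; exact h2)
    simpa using this

variable {F : Type*} [Field F]

theorem exists_sp_eig₂ (n : ℕ) (a b : (AlgebraicClosure F)ˣ)
    (h : (minpoly F ((a : AlgebraicClosure F) + ((a⁻¹ : (AlgebraicClosure F)ˣ) : AlgebraicClosure F))).natDegree +
      (minpoly F ((b : AlgebraicClosure F) + ((b⁻¹ : (AlgebraicClosure F)ˣ) : AlgebraicClosure F))).natDegree ≤ n) :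
    ∃ A : Matrix.symplecticGroup (Fin n) F, a ∈ eig (A : Matrix (Fin n ⊕ Fin n) (Fin n ⊕ Fin n) F) ∧
      b ∈ eig (A : Matrix (Fin n ⊕ Fin n) (Fin n ⊕ Fin n) F) := by
  set f := minpoly F ((a : AlgebraicClosure F) + ((a⁻¹ : (AlgebraicClosure F)ˣ) : AlgebraicClosure F)) with hf
  set g := minpoly F ((b : AlgebraicClosure F) + ((b⁻¹ : (AlgebraicClosure F)ˣ) : AlgebraicClosure F)) with hg
  have hfm : f.Monic := minpoly.monic (Algebra.IsIntegral.isIntegral _)
  have hgm : g.Monic := minpoly.monic (Algebra.IsIntegral.isIntegral _)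
  obtain ⟨A, hA⟩ := exists_sp n (f * g * X ^ (n - f.natDegree - g.natDegree)) ((hfm.mul hgm).mul (monic_X_pow _)) (by
    rw [(hfm.mul hgm).natDegree_mul (monic_X_pow _), hfm.natDegree_mul hgm, natDegree_X_pow]
    omega)
  refine ⟨A, ?_, ?_⟩
  · show aeval _ _ = 0
    rw [hA _ a.ne_zero, map_mul, map_mul]
    have h1 : aeval ((a : AlgebraicClosure F) + (a : AlgebraicClosure F)⁻¹) f = 0 := by
      have := minpoly.aeval F ((a : AlgebraicClosure F) + ((a⁻¹ : (AlgebraicClosure F)ˣ) : AlgebraicClosure F))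
      rw [Units.val_inv_eq_inv_val] at this
      rw [hf, Units.val_inv_eq_inv_val]
      exact this
    rw [h1]; ring
  · show aeval _ _ = 0
    rw [hA _ b.ne_zero, map_mul, map_mul]
    have h1 : aeval ((b : AlgebraicClosure F) + (b : AlgebraicClosure F)⁻¹) g = 0 := by
      have := minpoly.aeval F ((b : AlgebraicClosure F) + ((b⁻¹ : (AlgebraicClosure F)ˣ) : AlgebraicClosure F))
      rw [Units.val_inv_eq_inv_val] at this
      rw [hg, Units.val_inv_eq_inv_val]
      exact this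
    rw [h1]; ring

theorem exists_sp_eig₁ (n : ℕ) (a : (AlgebraicClosure F)ˣ)
    (h : (minpoly F ((a : AlgebraicClosure F) + ((a⁻¹ : (AlgebraicClosure F)ˣ) : AlgebraicClosure F))).natDegree ≤ n) :
    ∃ A : Matrix.symplecticGroup (Fin n) F, a ∈ eig (A : Matrix (Fin n ⊕ Fin n) (Fin n ⊕ Fin n) F) := by
  set f := minpoly F ((a : AlgebraicClosure F) + ((a⁻¹ : (AlgebraicClosure F)ˣ) : AlgebraicClosure F)) with hf
  have hfm : f.Monic := minpoly.monic (Algebra.IsIntegral.isIntegral _)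
  obtain ⟨A, hA⟩ := exists_sp n (f * X ^ (n - f.natDegree)) (hfm.mul (monic_X_pow _)) (by
    rw [hfm.natDegree_mul (monic_X_pow _), natDegree_X_pow]
    omega)
  refine ⟨A, ?_⟩
  show aeval _ _ = 0
  rw [hA _ a.ne_zero, map_mul]
  have h1 : aeval ((a : AlgebraicClosure F) + (a : AlgebraicClosure F)⁻¹) f = 0 := by
    have := minpoly.aeval F ((a : AlgebraicClosure F) + ((a⁻¹ : (AlgebraicClosure F)ˣ) : AlgebraicClosure F))
    rw [Units.val_inv_eq_inv_val] at this
    rw [hf, Units.val_inv_eq_inv_val]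
    exact this
  rw [h1]; ring

/-- an element of order `r * s` has an eigenvalue of order divisible by `r` -/
theorem exists_eig_dvd {p : ℕ} [Fact p.Prime] [CharP F p] {n r s : ℕ} (A : Matrix.symplecticGroup (Fin n) F) (hA : orderOf A = r * s)
    (hr : r.Prime) (hs : s.Prime) (hpr : Nat.Coprime p r) (hps : Nat.Coprime p s) :
    ∃ ν ∈ eig (A : Matrix (Fin n ⊕ Fin n) (Fin n ⊕ Fin n) F), orderOf ν = r ∨ orderOf ν = r * s := by
  have hAr : (A : Matrix (Fin n ⊕ Fin n) (Fin n ⊕ Fin n) F) ^ (r * s) = 1 := by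
    have h1 : A ^ (r * s) = 1 := by rw [← hA]; exact pow_orderOf_eq_one A
    exact congrArg Subtype.val h1
  have h1 : ((A : Matrix (Fin n ⊕ Fin n) (Fin n ⊕ Fin n) F) ^ s) ^ r = 1 := by rw [← pow_mul, mul_comm]; exact hAr
  have h2 : (A : Matrix (Fin n ⊕ Fin n) (Fin n ⊕ Fin n) F) ^ s ≠ 1 := by
    intro h
    have h3 : A ^ s = 1 := Subtype.ext h
    have h4 := orderOf_dvd_of_pow_eq_one h3
    rw [hA] at h4
    have := Nat.le_of_dvd hs.pos h4
    nlinarith [hr.one_lt, hs.pos]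
  obtain ⟨ν, hν, hν1⟩ := exists_eig_ne_one p h1 hpr h2
  haveI : Nonempty (Fin n ⊕ Fin n) := by
    by_contra hne
    rw [not_nonempty_iff] at hne
    exact h2 (Subsingleton.elim _ _)
  obtain ⟨μ, hμ, hμν⟩ := eig_of_pow hs.pos hν
  have h3 := orderOf_dvd_of_eig hμ hAr
  have h4 : ¬ orderOf μ ∣ s := by
    intro h
    apply hν1
    rw [← hμν]
    exact orderOf_dvd_iff_pow_eq_one.mp h
  refine ⟨μ, hμ, ?_⟩
  obtain ⟨a, b, ha, hb, hab⟩ := (Nat.dvd_mul.mp h3)
  rcases (Nat.dvd_prime hr).mp ha with rfl | rfl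
  · exfalso
    apply h4
    rw [← hab, one_mul]
    exact hb
  · rcases (Nat.dvd_prime hs).mp hb with rfl | rfl
    · left; rw [← hab, mul_one]
    · right; exact hab.symm

/-- Zsigmondy-free bound -/
theorem eta_le (p : ℕ) [Fact p.Prime] [CharP F p] [Fintype F] {n r η : ℕ} (hp : p.Prime) (hqr : Nat.Coprime (Fintype.card F) r) (hr : r.Prime) (hr3 : 2 < r)
    (hpr : Nat.Coprime p r) (hrG : r ∣ Nat.card (Cfsg.PSp n F))
    (hmin : ∀ j, 0 < j → j < η → ¬ (((Fintype.card F : ℕ) : ZMod r) ^ j = 1 ∨ ((Fintype.card F : ℕ) : ZMod r) ^ j = -1)) : η ≤ n := by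
  haveI : Fact r.Prime := ⟨hr⟩
  haveI : Finite (Cfsg.PSp n F) := Quotient.finite _
  obtain ⟨x, hx⟩ := exists_prime_orderOf_dvd_card' r hrG
  obtain ⟨A, hA⟩ := exists_sp_of_odd x (by rw [hx]; exact hr.odd_of_ne_two (by omega))
  rw [hx] at hA
  have hAr : (A : Matrix (Fin n ⊕ Fin n) (Fin n ⊕ Fin n) F) ^ r = 1 := by
    have h1 : A ^ r = 1 := by rw [← hA]; exact pow_orderOf_eq_one A
    exact congrArg Subtype.val h1
  have hA1 : (A : Matrix (Fin n ⊕ Fin n) (Fin n ⊕ Fin n) F) ≠ 1 := by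
    intro h
    have h3 : A = 1 := Subtype.ext h
    rw [h3, orderOf_one] at hA
    omega
  obtain ⟨ν, hν, hν1⟩ := exists_eig_ne_one p hAr hpr hA1
  have h3 := orderOf_dvd_of_eig hν hAr
  rcases (Nat.dvd_prime hr).mp h3 with h4 | h4
  · exact absurd (orderOf_eq_one_iff.mp h4) hν1
  · exact card_orb_le A hν h4 hr3 hqr hmin

/-- an eigenvalue of order `r * s` -/
theorem both [Fintype F] {n r s : ℕ} [Fact r.Prime] [Fact s.Prime] {k l ηk ηl : ℕ}
    (hk : k = orderOf ((Fintype.card F : ℕ) : ZMod r)) (hl : l = orderOf ((Fintype.card F : ℕ) : ZMod s)) (hk0 : 0 < k) (hl0 : 0 < l)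
    (hηk : (Odd k ∧ ηk = k) ∨ (Even k ∧ 2 * ηk = k)) (hηl : (Odd l ∧ ηl = l) ∨ (Even l ∧ 2 * ηl = l))
    (hr3 : 2 < r) (hs3 : 2 < s) (hrs : Nat.Coprime r s) (hq : Nat.Coprime (Fintype.card F) (r * s))
    (A : Matrix.symplecticGroup (Fin n) F) {ν : (AlgebraicClosure F)ˣ}
    (hν : ν ∈ eig (A : Matrix (Fin n ⊕ Fin n) (Fin n ⊕ Fin n) F)) (hνo : orderOf ν = r * s) (hkl : ηk ≤ ηl) (hlt : n < ηk + ηl) :
    ∃ t : ℕ, Odd t ∧ l = k * t := by
  classical
  set q := Fintype.card F with hqdef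
  have hex : ∃ e, 0 < e ∧ (((q : ℕ) : ZMod (r * s)) ^ e = 1 ∨ ((q : ℕ) : ZMod (r * s)) ^ e = -1) := by
    haveI : NeZero (r * s) := ⟨by have := (Fact.out : r.Prime).pos; have := (Fact.out : s.Prime).pos; positivity⟩
    refine ⟨Nat.totient (r * s), Nat.totient_pos.mpr (Nat.pos_of_ne_zero (NeZero.ne _)), Or.inl ?_⟩
    have h1 := ZMod.pow_totient (ZMod.unitOfCoprime q hq)
    have h2 := congrArg Units.val h1
    rw [Units.val_pow_eq_pow_val, ZMod.coe_unitOfCoprime, Units.val_one] at h2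
    exact h2
  set e := Nat.find hex with he
  obtain ⟨he0, hepm⟩ := Nat.find_spec hex
  have hemin : ∀ j, 0 < j → j < e → ¬ (((q : ℕ) : ZMod (r * s)) ^ j = 1 ∨ ((q : ℕ) : ZMod (r * s)) ^ j = -1) :=
    fun j hj0 hj h => Nat.find_min hex hj ⟨hj0, h⟩
  have hen : e ≤ n := card_orb_le A hν hνo (by nlinarith) hq hemin
  have hred : ((((q : ℕ) : ZMod r) ^ e = 1 ∧ ((q : ℕ) : ZMod s) ^ e = 1) ∨ (((q : ℕ) : ZMod r) ^ e = -1 ∧ ((q : ℕ) : ZMod s) ^ e = -1)) := by
    rcases hepm with h | h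
    · left
      constructor
      · have := congrArg (ZMod.castHom (Dvd.intro s rfl : r ∣ r * s) (ZMod r)) h
        simpa using this
      · have := congrArg (ZMod.castHom (Dvd.intro_left r rfl : s ∣ r * s) (ZMod s)) h
        simpa using this
    · right
      constructor
      · have := congrArg (ZMod.castHom (Dvd.intro s rfl : r ∣ r * s) (ZMod r)) h
        simpa using this
      · have := congrArg (ZMod.castHom (Dvd.intro_left r rfl : s ∣ r * s) (ZMod s)) h
        simpa using this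
  have hde : ηl ∣ e := (eta_dvd hl hηl e).mp (by rcases hred with h | h; exacts [Or.inl h.2, Or.inr h.2])
  have heq : e = ηl := by
    obtain ⟨c, hc⟩ := hde
    have hc0 : c ≠ 0 := by
      rintro rfl
      rw [mul_zero] at hc
      omega
    have hc2 : c < 2 := by
      by_contra h
      have : ηl * 2 ≤ ηl * c := Nat.mul_le_mul_left _ (by omega)
      omega
    have : c = 1 := by omega
    rw [hc, this, mul_one]
  rw [heq] at hred
  exact odd_mul_of_pm hr3 hs3 hk hl hl0 hηl hred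

end assembly

end Cfsg.Agent.Iso44.SpOrd
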